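import Cfsg.Agent.Lib.TICent.Zass
import Cfsg.Agent.Lib.Perm.PGLEven
import Cfsg.Agent.Lib.Classical.AltIso
import Cfsg.Agent.S0347
import Cfsg.Agent.S0727
import Cfsg.Agent.S0731

/-!
# Groups in which every centralizer is a TI set: the end of the case `F(G) = 1`
-/

set_option autoImplicit false
set_option linter.unusedSectionVars false
set_option linter.style.haveILetI false

open scoped Pointwise

namespace Cfsg.Agent.Lib.TICent.Invol

open Cfsg Cfsg.Agent.Lib.OddLocal.CN Cfsg.Agent.Lib.Coprime.Action Cfsg.Agent.Lib.TICent.Basic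
  Cfsg.Agent.Lib.TICent.Fit Cfsg.Agent.Lib.Core.Basic

/-! ### Arithmetic -/

theorem suz_numeric {n q Q b c : ℕ} (hn : n = 2 ^ b) (hQ2 : Q ^ 2 = 2 ^ c) (hqpos : 2 ≤ q)
    (hQpos : 2 ≤ Q) (hqodd : Odd (q - 1)) (hQodd : Odd (Q - 1)) (hcpos : 1 ≤ c) (hbpos : 1 ≤ b)
    (heq : (n + 1) * ((q - 1) * n) = Q ^ 2 * (Q ^ 2 + 1) * (Q - 1)) :
    n = Q ^ 2 ∧ q = Q := by
  have hnodd : Odd (n + 1) := by
    rw [hn]
    exact Even.add_one ((Nat.even_pow.2 ⟨even_two, by omega⟩))
  have hQ2odd : Odd (Q ^ 2 + 1) := by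
    rw [hQ2]
    exact Even.add_one ((Nat.even_pow.2 ⟨even_two, by omega⟩))
  have hA : Odd ((n + 1) * (q - 1)) := hnodd.mul hqodd
  have hB : Odd ((Q ^ 2 + 1) * (Q - 1)) := hQ2odd.mul hQodd
  have e1 : n * ((n + 1) * (q - 1)) = Q ^ 2 * ((Q ^ 2 + 1) * (Q - 1)) := by
    rw [← mul_assoc (Q ^ 2)]
    rw [← heq]
    ring
  have h1 : n ∣ Q ^ 2 := by
    have h2 : n ∣ Q ^ 2 * ((Q ^ 2 + 1) * (Q - 1)) := ⟨_, e1.symm⟩
    have h3 : Nat.Coprime n ((Q ^ 2 + 1) * (Q - 1)) := by
      rw [hn]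
      exact Nat.Coprime.pow_left b (Nat.coprime_two_left.2 hB)
    exact h3.dvd_of_dvd_mul_right h2
  have h2 : Q ^ 2 ∣ n := by
    have h2 : Q ^ 2 ∣ n * ((n + 1) * (q - 1)) := ⟨_, e1⟩
    have h3 : Nat.Coprime (Q ^ 2) ((n + 1) * (q - 1)) := by
      rw [hQ2]
      exact Nat.Coprime.pow_left c (Nat.coprime_two_left.2 hA)
    exact h3.dvd_of_dvd_mul_right h2
  have h3 : n = Q ^ 2 := Nat.dvd_antisymm h1 h2
  refine ⟨h3, ?_⟩
  rw [h3] at e1
  have hQ0 : 0 < Q ^ 2 := by positivity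
  have h4 := Nat.eq_of_mul_eq_mul_left hQ0 e1
  have h5 : 0 < Q ^ 2 + 1 := by positivity
  have h6 := Nat.eq_of_mul_eq_mul_left h5 h4
  omega

theorem caseB_aux {N c m : ℤ} (hcZ : 2 ≤ c) (hNZ : 2 ≤ N) (hmZ : m + 1 ≤ 2 * N)
    (e2 : (2 * N + 1) * m = c * (N * c - 1) * (2 * (N * c) - 1)) : False := by
  have hA : 2 * N ≤ N * c := by
    have : N * 2 ≤ N * c := mul_le_mul_of_nonneg_left hcZ (by linarith)
    linarith
  obtain ⟨A, hAdef⟩ : ∃ A : ℤ, A = N * c := ⟨_, rfl⟩
  rw [← hAdef] at e2 hA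
  have h4 : 2 * N - 1 ≤ A - 1 := by linarith
  have h5 : 2 * N + 1 ≤ 2 * A - 1 := by linarith
  have h6 : (2 * N - 1) * (2 * N + 1) ≤ (A - 1) * (2 * A - 1) :=
    mul_le_mul h4 h5 (by linarith) (by linarith)
  have h7 : 0 < A - 1 := by linarith
  have h8 : 0 < 2 * A - 1 := by linarith
  have hP : 0 < (A - 1) * (2 * A - 1) := mul_pos h7 h8
  have h9 : (2 * N + 1) * m ≤ (2 * N + 1) * (2 * N - 1) :=
    mul_le_mul_of_nonneg_left (by linarith) (by linarith)
  have h10 : (A - 1) * (2 * A - 1) < c * ((A - 1) * (2 * A - 1)) :=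
    lt_mul_of_one_lt_left hP (by linarith)
  have h11 : c * (A - 1) * (2 * A - 1) = c * ((A - 1) * (2 * A - 1)) := by ring
  have h12 : (2 * N + 1) * (2 * N - 1) = (2 * N - 1) * (2 * N + 1) := by ring
  linarith

theorem psl_numeric {k n q a b : ℕ} (hk : Odd k) (hn : n = 2 ^ b) (hq : q = 2 ^ a) (ha : 2 ≤ a)
    (hqn : q ≤ n) (heq : (n + 1) * ((q - 1) * n) * 2 = k * ((k - 1) * (k + 1))) :
    n = 4 ∧ q = 4 := by
  have hq4 : 4 ≤ q := by
    rw [hq]
    calc 4 = 2 ^ 2 := by norm_num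
      _ ≤ 2 ^ a := Nat.pow_le_pow_right (by norm_num) ha
  have hn4 : 4 ≤ n := hq4.trans hqn
  have hb : 2 ≤ b := by
    by_contra hlt
    have : b = 0 ∨ b = 1 := by omega
    rcases this with rfl | rfl <;> simp at hn <;> omega
  obtain ⟨i, rfl⟩ : ∃ i, b = i + 1 := ⟨b - 1, by omega⟩
  set N := 2 ^ i with hN
  have hnN : n = 2 * N := by rw [hn, pow_succ]; ring
  have hN2 : 2 ≤ N := by omega
  obtain ⟨j, rfl⟩ := hk
  -- simplify the equation
  obtain ⟨m, hm⟩ : ∃ m, q = m + 1 := ⟨q - 1, by omega⟩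
  have hqm : q - 1 = m := by omega
  rw [hqm, hnN] at heq
  have h1 : 2 * j + 1 - 1 = 2 * j := by omega
  rw [h1] at heq
  have e1 : (2 * N + 1) * m * N = j * (j + 1) * (2 * j + 1) := by
    have : 4 * ((2 * N + 1) * m * N) = 4 * (j * (j + 1) * (2 * j + 1)) := by
      nlinarith [heq]
    omega
  have hm3 : 3 ≤ m := by omega
  have hj : 1 ≤ j := by
    rcases Nat.eq_zero_or_pos j with rfl | h0
    · exfalso
      have : 0 < (2 * N + 1) * m * N := by positivity
      omega
    · exact h0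
  have hmle : m + 1 ≤ 2 * N := by omega
  have hcop : Nat.Coprime N (2 * j + 1) := by
    rw [hN]
    exact Nat.Coprime.pow_left i (Nat.coprime_two_left.2 ⟨j, rfl⟩)
  have hd : N ∣ j * (j + 1) := by
    have h2 : N ∣ j * (j + 1) * (2 * j + 1) := ⟨(2 * N + 1) * m, by rw [← e1]; ring⟩
    exact hcop.dvd_of_dvd_mul_right h2
  rcases Nat.even_or_odd j with hje | hjo
  · -- `N ∣ j`
    have hd2 : N ∣ j := by
      have h3 : Nat.Coprime N (j + 1) := by
        rw [hN]
        exact Nat.Coprime.pow_left i (Nat.coprime_two_left.2 hje.add_one)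
      exact h3.dvd_of_dvd_mul_right hd
    obtain ⟨c, rfl⟩ := hd2
    have hc : 1 ≤ c := by
      rcases Nat.eq_zero_or_pos c with rfl | h0
      · simp at hj
      · exact h0
    have e2 : (2 * N + 1) * m = c * (N * c + 1) * (2 * (N * c) + 1) := by
      have hNpos : 0 < N := by omega
      apply Nat.eq_of_mul_eq_mul_right hNpos
      rw [e1]; ring
    have hc1 : c = 1 := by
      by_contra hne
      have hc2 : 2 ≤ c := by omega
      have h4 : 2 * N + 1 ≤ N * c + 1 := by nlinarith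
      have h5 : 2 * N + 1 ≤ 2 * (N * c) + 1 := by nlinarith
      have h6 : (2 * N + 1) * (2 * N + 1) ≤ (N * c + 1) * (2 * (N * c) + 1) :=
        Nat.mul_le_mul h4 h5
      have h7 : (N * c + 1) * (2 * (N * c) + 1) ≤ c * (N * c + 1) * (2 * (N * c) + 1) := by
        nlinarith [Nat.zero_le ((N * c + 1) * (2 * (N * c) + 1))]
      have h8 : (2 * N + 1) * m < (2 * N + 1) * (2 * N + 1) :=
        Nat.mul_lt_mul_of_pos_left (by omega) (by omega)
      omega
    subst hc1
    have e3 : (2 * N + 1) * m = (2 * N + 1) * (N + 1) := by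
      rw [e2]; ring
    have hmN : m = N + 1 := Nat.eq_of_mul_eq_mul_left (by omega) e3
    -- `q = N + 2`
    have hqN : q = N + 2 := by omega
    have hq4d : 4 ∣ q := by
      rw [hq]
      exact pow_dvd_pow 2 ha
    have hi : i = 1 := by
      by_contra hne
      have hi2 : 2 ≤ i := by
        have h0 : i ≠ 0 := by
          rintro rfl
          simp [hN] at hN2
        omega
      have h4 : 4 ∣ N := by
        rw [hN]
        exact pow_dvd_pow 2 hi2
      omega
    subst hi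
    simp [hN] at hqN hnN
    omega
  · -- `N ∣ j + 1`
    have hd2 : N ∣ j + 1 := by
      have h3 : Nat.Coprime N j := by
        rw [hN]
        exact Nat.Coprime.pow_left i (Nat.coprime_two_left.2 hjo)
      exact h3.dvd_of_dvd_mul_left hd
    obtain ⟨c, hc⟩ := hd2
    have hc1' : 1 ≤ c := by
      rcases Nat.eq_zero_or_pos c with rfl | h0
      · omega
      · exact h0
    -- work in the integers
    have e2 : ((2 * N + 1 : ℤ)) * m = c * (N * c - 1) * (2 * (N * c) - 1) := by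
      have hNpos : (N : ℤ) ≠ 0 := by
        have : 0 < N := by omega
        positivity
      apply mul_right_cancel₀ hNpos
      have e1' : ((2 * N + 1 : ℕ) : ℤ) * m * N = ((j * (j + 1) * (2 * j + 1) : ℕ) : ℤ) := by
        exact_mod_cast e1
      have hjZ : (j : ℤ) = N * c - 1 := by
        have : ((j + 1 : ℕ) : ℤ) = ((N * c : ℕ) : ℤ) := by exact_mod_cast hc
        push_cast at this
        linarith
      push_cast at e1'
      rw [e1', hjZ]
      ring
    by_cases hc1 : c = 1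
    · subst hc1
      exfalso
      have h3 : ((2 * N + 1 : ℤ)) ∣ 6 := by
        refine ⟨2 * m - 2 * N + 4, ?_⟩
        have e3 : (2 * (N : ℤ) + 1) * m = (N - 1) * (2 * N - 1) := by
          rw [e2]; push_cast; ring
        linear_combination (-2) * e3
      have h4 := Int.le_of_dvd (by norm_num) h3
      have hNle : N ≤ 2 := by omega
      have hNeq : N = 2 := by omega
      rw [hNeq] at h3
      norm_num at h3
    · exfalso
      have hc2 : 2 ≤ c := by omega
      have hcZ : (2 : ℤ) ≤ c := by exact_mod_cast hc2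
      have hNZ : (2 : ℤ) ≤ N := by exact_mod_cast hN2
      have hmZ : (m : ℤ) + 1 ≤ 2 * N := by exact_mod_cast hmle
      exact caseB_aux hcZ hNZ hmZ e2

/-! ### `SL₂` and `PSL₂` in characteristic two -/

noncomputable def slCongr {F K : Type*} [Field F] [Field K] (φ : F ≃+* K) :
    Matrix.SpecialLinearGroup (Fin 2) F ≃* Matrix.SpecialLinearGroup (Fin 2) K :=
  MonoidHom.toMulEquiv (Matrix.SpecialLinearGroup.map (φ : F →+* K))
    (Matrix.SpecialLinearGroup.map (φ.symm : K →+* F))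
    (by ext A i j; simp) (by ext A i j; simp)

theorem sl_equiv_psl {K : Type*} [Field K] (h20 : (2 : K) = 0) :
    Nonempty (Matrix.SpecialLinearGroup (Fin 2) K ≃* Matrix.ProjectiveSpecialLinearGroup (Fin 2) K) := by
  have hc : Subgroup.center (Matrix.SpecialLinearGroup (Fin 2) K) = ⊥ := by
    rw [eq_bot_iff]
    intro A hA
    obtain ⟨r, hr, hrA⟩ := Matrix.SpecialLinearGroup.mem_center_iff.1 hA
    rw [Fintype.card_fin] at hr
    have hr1 : r = 1 := by
      have h1 : (r + 1) ^ 2 = 0 := by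
        have : (r + 1) ^ 2 = r ^ 2 + 2 * r + 1 := by ring
        rw [this, hr, h20]
        have h5 : (1 : K) + 1 = 0 := by
          have : (1 : K) + 1 = 2 := by norm_num
          rw [this, h20]
        linear_combination h5
      have h2 : r + 1 = 0 := pow_eq_zero_iff (by norm_num) |>.1 h1
      have h5 : (1 : K) + 1 = 0 := by
        have : (1 : K) + 1 = 2 := by norm_num
        rw [this, h20]
      linear_combination h2 - h5
    rw [Subgroup.mem_bot]
    apply Subtype.ext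
    rw [← hrA, hr1]
    simp
  refine ⟨MulEquiv.ofBijective (QuotientGroup.mk' _) ⟨?_, QuotientGroup.mk'_surjective _⟩⟩
  rw [← MonoidHom.ker_eq_bot_iff, QuotientGroup.ker_mk']
  exact hc

/-- The conversion: a sharply `3`-transitive action on `2 ^ f + 1` points. -/
theorem psl_of_sharply {G Ω : Type*} [Group G] [Finite G] [MulAction G Ω] [Fintype Ω]
    [FaithfulSMul G Ω] {f : ℕ} (hf : 1 ≤ f) (hcard : Fintype.card Ω = 2 ^ f + 1)
    (h3 : MulAction.IsMultiplyPretransitive G Ω 3)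
    (hs : ∀ t : Fin 3 ↪ Ω, MulAction.stabilizer G t = ⊥) :
    Nonempty (G ≃* Matrix.ProjectiveSpecialLinearGroup (Fin 2) (GaloisField 2 f)) := by
  classical
  let φ : G →* Equiv.Perm Ω := MulAction.toPermHom G Ω
  have hφ : Function.Injective φ := MulAction.toPerm_injective
  let G' : Subgroup (Equiv.Perm Ω) := φ.range
  let e₀ : G ≃* G' := MonoidHom.ofInjective hφ
  have h3' : MulAction.IsMultiplyPretransitive G' Ω 3 := by
    refine ⟨fun x y => ?_⟩
    obtain ⟨g, hg⟩ := h3.exists_smul_eq x y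
    refine ⟨⟨φ g, g, rfl⟩, ?_⟩
    ext i
    have := congrArg (fun e : Fin 3 ↪ Ω => e i) hg
    exact this
  have hsharp : ∀ x : Fin 3 ↪ Ω, MulAction.stabilizer G' x = ⊥ := by
    intro x
    rw [eq_bot_iff]
    rintro ⟨σ, g, rfl⟩ hσ
    have hg : g ∈ MulAction.stabilizer G x := by
      have h1 : (⟨φ g, g, rfl⟩ : G') • x = x := hσ
      change g • x = x
      ext i
      have := congrArg (fun e : Fin 3 ↪ Ω => e i) h1
      exact this
    rw [hs x, Subgroup.mem_bot] at hg
    rw [Subgroup.mem_bot]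
    apply Subtype.ext
    rw [hg]
    exact map_one φ
  obtain ⟨F, _, _, hF, ⟨e₁⟩⟩ := Cfsg.Agent.S0727.result hf hcard G' h3' hsharp
  let e₂ := Cfsg.Agent.Lib.Perm.PGLEven.mulEquiv F hF hf
  have hcG : Nat.card (GaloisField 2 f) = 2 ^ f := GaloisField.card 2 f (by omega)
  haveI : Finite (GaloisField 2 f) := Nat.finite_of_card_ne_zero (by rw [hcG]; positivity)
  haveI : Fintype (GaloisField 2 f) := Fintype.ofFinite _
  have hK : Fintype.card F = Fintype.card (GaloisField 2 f) := by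
    rw [hF, ← Nat.card_eq_fintype_card, hcG]
  let ρ : F ≃+* GaloisField 2 f := FiniteField.ringEquivOfCardEq hK
  have h20 : (2 : GaloisField 2 f) = 0 := by
    exact_mod_cast CharP.cast_eq_zero (GaloisField 2 f) 2
  obtain ⟨e₃⟩ := sl_equiv_psl h20
  exact ⟨e₀.trans (e₁.trans (e₂.symm.trans ((slCongr ρ).trans e₃)))⟩

end Cfsg.Agent.Lib.TICent.Invol
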