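import Cfsg.Agent.Lib.TICent.Final

/-!
# Groups in which every centralizer is a TI set: `F(G) = 1` forces `PSL₂(2ⁿ)`
-/

set_option autoImplicit false
set_option linter.unusedSectionVars false
set_option linter.style.haveILetI false

open scoped Pointwise

namespace Cfsg.Agent.Lib.TICent.Invol

open Cfsg Cfsg.Agent.Lib.OddLocal.CN Cfsg.Agent.Lib.Coprime.Action Cfsg.Agent.Lib.TICent.Basic
  Cfsg.Agent.Lib.TICent.Fit Cfsg.Agent.Lib.Core.Basic

variable {G : Type*} [Group G] [Finite G]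

namespace Hyp

variable (h : Hyp G)
include h

/-- Conjugates under the normalizer commute. -/
theorem comm_conj {S : Sylow 2 G} {x g : G} (hx : x ∈ S) (hg : g • S = S) :
    Commute (g * x * g⁻¹) x := by
  by_cases hx1 : x = 1
  · rw [hx1]
    exact Commute.one_right _
  obtain ⟨t, ht, it⟩ := h.exists_inv S
  have h1 : Commute t x := (h.central_of_inv ht it x hx).symm
  have h2 : Commute (g * t * g⁻¹) x := by
    have hm : g * t * g⁻¹ ∈ S := by
      have := conj_mem_smul_sylow S g ht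
      rwa [hg] at this
    exact (h.central_of_inv hm (it.conj g) x hx).symm
  exact h.ti.conj_commute h1 h2 it.1 (Commute.refl x)

theorem conj_mem_E {S : Sylow 2 G} {g e : G} (hg : g • S = S) (he : e ∈ E h S) :
    g * e * g⁻¹ ∈ E h S := by
  refine ⟨?_, ?_⟩
  · have := conj_mem_smul_sylow S g he.1
    rwa [hg] at this
  · calc g * e * g⁻¹ * (g * e * g⁻¹) = g * (e * e) * g⁻¹ := by group
      _ = 1 := by rw [he.2]; group

/-- `D` acts freely on the nontrivial cosets of `E`. -/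
theorem coset_free {S P : Sylow 2 G} (hSP : S ≠ P) {d : G} (hdS : d • S = S) (hdP : d • P = P)
    (hd1 : d ≠ 1) {y f : G} (hy : y ∈ S) (hf : f ∈ E h S) (heq : d * y * d⁻¹ = y * f) :
    y ∈ E h S := by
  let ψ : E h S → E h S := fun e =>
    ⟨e * (d * e * d⁻¹)⁻¹, (E h S).mul_mem e.2 ((E h S).inv_mem (h.conj_mem_E hdS e.2))⟩
  have hψ : Function.Injective ψ := by
    intro a b hab
    have h1 : (a : G) * (d * a * d⁻¹)⁻¹ = b * (d * b * d⁻¹)⁻¹ := congrArg Subtype.val hab
    have h2 : (b : G)⁻¹ * a = d * ((b : G)⁻¹ * a) * d⁻¹ := by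
      calc (b : G)⁻¹ * a = (b : G)⁻¹ * ((a : G) * (d * a * d⁻¹)⁻¹) * (d * a * d⁻¹) := by group
        _ = (b : G)⁻¹ * ((b : G) * (d * b * d⁻¹)⁻¹) * (d * a * d⁻¹) := by rw [h1]
        _ = d * ((b : G)⁻¹ * a) * d⁻¹ := by group
    have h3 : Commute ((b : G)⁻¹ * a) d := by
      change (b : G)⁻¹ * a * d = d * ((b : G)⁻¹ * a)
      calc (b : G)⁻¹ * a * d = (d * ((b : G)⁻¹ * a) * d⁻¹) * d := by rw [← h2]
        _ = d * ((b : G)⁻¹ * a) := by group
    have h4 : (b : G)⁻¹ * a ∈ B S :=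
      h.S_le_B S (S.mul_mem (S.inv_mem b.2.1) a.2.1)
    have h5 := h.B_comm_D hSP hdS hdP hd1 h4 h3
    apply Subtype.ext
    have h6 : (a : G) = b * ((b : G)⁻¹ * a) := by group
    rw [h6, h5, mul_one]
  have hψs : Function.Surjective ψ := Finite.surjective_of_injective hψ
  obtain ⟨w, hw⟩ := hψs ⟨f, hf⟩
  have hwf : (w : G) * (d * w * d⁻¹)⁻¹ = f := congrArg Subtype.val hw
  have h7 : d * (y * w) * d⁻¹ = y * w := by
    calc d * (y * w) * d⁻¹ = (d * y * d⁻¹) * (d * w * d⁻¹) := by group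
      _ = y * f * (d * w * d⁻¹) := by rw [heq]
      _ = y * ((w : G) * (d * w * d⁻¹)⁻¹) * (d * w * d⁻¹) := by rw [hwf]
      _ = y * w := by group
  have h8 : Commute (y * w) d := by
    change y * w * d = d * (y * w)
    calc y * w * d = (d * (y * w) * d⁻¹) * d := by rw [h7]
      _ = d * (y * w) := by group
  have h9 : y * w ∈ B S := h.S_le_B S (S.mul_mem hy w.2.1)
  have h10 := h.B_comm_D hSP hdS hdP hd1 h9 h8
  have h11 : y = (w : G)⁻¹ := eq_inv_of_mul_eq_one_left h10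
  rw [h11]
  exact (E h S).inv_mem w.2

/-- If `|S| = |E|²`, then `S` is abelian. -/
theorem comm_of_sq {S : Sylow 2 G} (hcard : Nat.card (S : Subgroup G) = Nat.card (E h S) ^ 2) :
    ∀ u ∈ (S : Subgroup G), ∀ v ∈ (S : Subgroup G), Commute u v := by
  obtain ⟨P, hP⟩ := h.exists_ne S
  have hSP : S ≠ P := hP.symm
  by_cases hall : ∀ x ∈ (S : Subgroup G), x ∈ E h S
  · intro u hu v hv
    exact h.central_of_E (hall v hv) u hu
  push Not at hall
  obtain ⟨x, hx, hxE⟩ := hall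
  have hconj : ∀ d : D S P, (d : G) * x * (d : G)⁻¹ ∈ (S : Subgroup G) := by
    intro d
    have := conj_mem_smul_sylow S (d : G) hx
    rwa [(mem_D.1 d.2).1] at this
  let Φ : Option (D S P) × E h S → (S : Subgroup G) := fun p => match p.1 with
    | none => ⟨p.2, h.E_le_S S p.2.2⟩
    | some d => ⟨((d : G) * x * (d : G)⁻¹) * p.2, S.mul_mem (hconj d) (h.E_le_S S p.2.2)⟩
  have hinj : Function.Injective Φ := by
    have hnone : ∀ (d : D S P) (e e' : E h S), (e : G) ≠ ((d : G) * x * (d : G)⁻¹) * e' := by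
      intro d e e' he
      apply hxE
      have h1 : (d : G) * x * (d : G)⁻¹ = e * (e' : G)⁻¹ := by
        rw [he]; group
      have h2 : (d : G) * x * (d : G)⁻¹ ∈ E h S := by
        rw [h1]
        exact (E h S).mul_mem e.2 ((E h S).inv_mem e'.2)
      have h3 := h.conj_mem_E (g := (d : G)⁻¹) (mem_D.1 ((D S P).inv_mem d.2)).1 h2
      have h5 : (d : G)⁻¹ * ((d : G) * x * (d : G)⁻¹) * (d : G)⁻¹⁻¹ = x := by group
      rwa [h5] at h3
    rintro ⟨_ | a, e⟩ ⟨_ | b, e'⟩ hab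
    · have h1 : (e : G) = e' := congrArg (fun z : (S : Subgroup G) => (z : G)) hab
      rw [Subtype.ext h1]
    · exact absurd (congrArg (fun z : (S : Subgroup G) => (z : G)) hab) (hnone b e e')
    · exact absurd (congrArg (fun z : (S : Subgroup G) => (z : G)) hab).symm (hnone a e' e)
    · have h1 : ((a : G) * x * (a : G)⁻¹) * e = ((b : G) * x * (b : G)⁻¹) * e' :=
        congrArg (fun z : (S : Subgroup G) => (z : G)) hab
      set d₀ := (b : G)⁻¹ * a with hd₀
      have hd₀D : d₀ ∈ D S P := (D S P).mul_mem ((D S P).inv_mem b.2) a.2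
      have hbi : (b : G)⁻¹ • S = S := (mem_D.1 ((D S P).inv_mem b.2)).1
      have hfE : (b : G)⁻¹ * ((e' : G) * (e : G)⁻¹) * (b : G)⁻¹⁻¹ ∈ E h S :=
        h.conj_mem_E hbi ((E h S).mul_mem e'.2 ((E h S).inv_mem e.2))
      have h2 : d₀ * x * d₀⁻¹ = x * ((b : G)⁻¹ * ((e' : G) * (e : G)⁻¹) * (b : G)⁻¹⁻¹) := by
        have h3 : (a : G) * x * (a : G)⁻¹ = (b : G) * x * (b : G)⁻¹ * e' * (e : G)⁻¹ := by
          rw [← h1]; group
        calc d₀ * x * d₀⁻¹ = (b : G)⁻¹ * ((a : G) * x * (a : G)⁻¹) * b := by rw [hd₀]; group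
          _ = (b : G)⁻¹ * ((b : G) * x * (b : G)⁻¹ * e' * (e : G)⁻¹) * b := by rw [h3]
          _ = x * ((b : G)⁻¹ * ((e' : G) * (e : G)⁻¹) * (b : G)⁻¹⁻¹) := by group
      have hd₀1 : d₀ = 1 := by
        by_contra hne
        exact hxE (h.coset_free hSP (mem_D.1 hd₀D).1 (mem_D.1 hd₀D).2 hne hx hfE h2)
      have hab' : (a : G) = b := by
        have h4 : (a : G) = b * d₀ := by rw [hd₀]; group
        rw [h4, hd₀1, mul_one]
      have hee' : (e : G) = e' := by
        rw [hab'] at h1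
        exact mul_left_cancel h1
      have h5 : a = b := Subtype.ext hab'
      have h6 : e = e' := Subtype.ext hee'
      rw [h5, h6]
  have hbij : Function.Bijective Φ := by
    rw [Nat.bijective_iff_injective_and_card]
    refine ⟨hinj, ?_⟩
    rw [Nat.card_prod, Finite.card_option, h.card_D_add_one hSP, hcard, pow_two]
  have hcov : ∀ u ∈ (S : Subgroup G), u ∈ E h S ∨
      ∃ d e : G, d ∈ D S P ∧ e ∈ E h S ∧ u = (d * x * d⁻¹) * e := by
    intro u hu
    obtain ⟨⟨_ | d, e⟩, hp⟩ := hbij.2 ⟨u, hu⟩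
    · left
      have h1 : (e : G) = u := congrArg Subtype.val hp
      rw [← h1]
      exact e.2
    · right
      have h1 : ((d : G) * x * (d : G)⁻¹) * e = u := congrArg Subtype.val hp
      exact ⟨d, e, d.2, e.2, h1.symm⟩
  intro u hu v hv
  rcases hcov u hu with hu' | ⟨a, e, ha, he, rfl⟩
  · exact h.central_of_E hu' v hv |>.symm
  rcases hcov v hv with hv' | ⟨b, e', hb, he', rfl⟩
  · exact h.central_of_E hv' _ hu
  have hu₀ : a * x * a⁻¹ ∈ (S : Subgroup G) := hconj ⟨a, ha⟩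
  have hv₀ : b * x * b⁻¹ ∈ (S : Subgroup G) := hconj ⟨b, hb⟩
  have hg : (b⁻¹ * a) • S = S := (mem_D.1 ((D S P).mul_mem ((D S P).inv_mem hb) ha)).1
  have h0 : Commute (a * x * a⁻¹) (b * x * b⁻¹) := by
    have h1 := h.comm_conj hx hg
    have h2 : Commute ((b⁻¹ * a) * x * (b⁻¹ * a)⁻¹) (b⁻¹ * (b * x * b⁻¹) * b) := by
      have : b⁻¹ * (b * x * b⁻¹) * b = x := by group
      rw [this]; exact h1
    have h3 := conj_comm h2
    have h4 : b * ((b⁻¹ * a) * x * (b⁻¹ * a)⁻¹) * b⁻¹ = a * x * a⁻¹ := by group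
    rwa [h4] at h3
  have h1 : Commute (a * x * a⁻¹) e' := h.central_of_E he' _ hu₀
  have h2 : Commute e (b * x * b⁻¹) := (h.central_of_E he _ hv₀).symm
  have h3 : Commute e e' := h.central_of_E he' _ (h.E_le_S S he)
  exact (h0.mul_right h1).mul_left (h2.mul_right h3)

theorem stabilizer_emb (t : Fin 3 ↪ Sylow 2 G) : MulAction.stabilizer G t = ⊥ := by
  rw [eq_bot_iff]
  intro g hg
  have hi : ∀ i, g • t i = t i := fun i => by
    have := congrArg (fun e : Fin 3 ↪ Sylow 2 G => e i) (show g • t = t from hg)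
    exact this
  exact h.no_three (t.injective.ne (by decide)) (t.injective.ne (by decide))
    (t.injective.ne (by decide)) (hi 0) (hi 1) (hi 2)

/-- If every Sylow `2`-subgroup is elementary abelian, the action is `3`-transitive. -/
theorem three_trans (hall : ∀ S : Sylow 2 G, (S : Subgroup G) ≤ E h S) :
    MulAction.IsMultiplyPretransitive G (Sylow 2 G) 3 := by
  refine ⟨fun x y => ?_⟩
  have h2 : ∀ a b c d : Sylow 2 G, a ≠ b → c ≠ d → ∃ g : G, g • a = c ∧ g • b = d :=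
    fun a b c d hab hcd => MulAction.is_two_pretransitive_iff.1 h.isZassenhaus.2.1 hab hcd
  obtain ⟨g, hg0, hg1⟩ := h2 _ _ _ _ (x.injective.ne (show (0 : Fin 3) ≠ 1 by decide))
    (y.injective.ne (show (0 : Fin 3) ≠ 1 by decide))
  have hSP : y 0 ≠ y 1 := y.injective.ne (by decide)
  have hcS : y 0 ≠ g • x 2 := by
    rw [← hg0]
    intro he
    exact (x.injective.ne (show (0 : Fin 3) ≠ 2 by decide)) (smul_left_cancel _ he)
  have hcP : y 1 ≠ g • x 2 := by
    rw [← hg1]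
    intro he
    exact (x.injective.ne (show (1 : Fin 3) ≠ 2 by decide)) (smul_left_cancel _ he)
  obtain ⟨u, hu, huc⟩ := h.B_trans hSP hcS
  obtain ⟨u', hu', huc'⟩ := h.B_trans hSP (y.injective.ne (show (0 : Fin 3) ≠ 2 by decide))
  have hBS := h.B_eq_S (y 0)
  have huS : u ∈ y 0 := by
    rw [hBS] at hu
    exact hu
  have huS' : u' ∈ y 0 := by
    rw [hBS] at hu'
    exact hu'
  have hu1 : u ≠ 1 := by
    intro h0
    rw [h0, one_smul] at huc
    exact hcP huc
  have hu'1 : u' ≠ 1 := by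
    intro h0
    rw [h0, one_smul] at huc'
    exact (y.injective.ne (show (1 : Fin 3) ≠ 2 by decide)) huc'
  have iu : IsInv u := ⟨hu1, (hall _ huS).2⟩
  have iu' : IsInv u' := ⟨hu'1, (hall _ huS').2⟩
  obtain ⟨d, hdS, hdP, hd⟩ := h.D_trans hSP huS iu huS' iu'
  refine ⟨d * g, ?_⟩
  have hdu : d * u = u' * d := by
    rw [← hd]; group
  refine Function.Embedding.ext (fun i => ?_)
  fin_cases i
  · change (d * g) • x 0 = y 0
    rw [mul_smul, hg0, hdS]
  · change (d * g) • x 1 = y 1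
    rw [mul_smul, hg1, hdP]
  · change (d * g) • x 2 = y 2
    rw [mul_smul, ← huc, smul_smul, hdu, mul_smul, hdP, huc']

/-- In the linear alternative, `S = E`. -/
theorem sylow_le_E_of_psl {K : Type*} [Field K] [Fintype K] (hK : ringChar K ≠ 2)
    (e : G ≃* Matrix.ProjectiveSpecialLinearGroup (Fin 2) K) (S : Sylow 2 G) :
    (S : Subgroup G) ≤ E h S := by
  obtain ⟨P, hP⟩ := h.exists_ne S
  have hSP : S ≠ P := hP.symm
  obtain ⟨a, ha, hqa⟩ := h.exists_card_E S
  obtain ⟨b, hnb⟩ := h.exists_card_S S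
  have hle := h.card_E_le S
  have hodd : Odd (Fintype.card K) := Nat.odd_iff.2 (FiniteField.odd_card_of_char_ne_two hK)
  have hc1 := Cfsg.Agent.Lib.Classical.AltIso.card_psl_two_mul (F := K)
  have hk3 : 2 ≤ Fintype.card K := Fintype.one_lt_card
  have hgcd : Nat.gcd (Fintype.card K - 1) 2 = 2 := by
    apply Nat.gcd_eq_right
    obtain ⟨r, hr⟩ := hodd
    rw [hr]
    exact ⟨r, by omega⟩
  rw [hgcd, ← Nat.card_congr e.toEquiv, h.card_G hSP, h.B_eq_S S] at hc1
  have hD : Nat.card (D S P) = Nat.card (E h S) - 1 := by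
    have := h.card_D_add_one hSP
    omega
  rw [hD] at hc1
  obtain ⟨-, hq4⟩ := psl_numeric hodd hnb hqa ha hle hc1
  obtain ⟨hn4, -⟩ := psl_numeric hodd hnb hqa ha hle hc1
  have hEq : E h S = (S : Subgroup G) :=
    Subgroup.eq_of_le_of_card_ge (h.E_le_S S) (by rw [hn4, hq4])
  rw [hEq]

/-- The case `F(G) = 1`. -/
theorem main3 : ∃ n : ℕ, 2 ≤ n ∧
    Nonempty (G ≃* Matrix.ProjectiveSpecialLinearGroup (Fin 2) (GaloisField 2 n)) := by
  classical
  obtain ⟨S⟩ : Nonempty (Sylow 2 G) := inferInstance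
  obtain ⟨P, hP⟩ := h.exists_ne S
  have hSP : S ≠ P := hP.symm
  have hBS := h.B_eq_S S
  obtain ⟨a, ha, hqa⟩ := h.exists_card_E S
  obtain ⟨b, hnb⟩ := h.exists_card_S S
  have hle := h.card_E_le S
  have hab : 2 ≤ b := by
    rw [hqa, hnb] at hle
    have := (Nat.pow_le_pow_iff_right (by norm_num : 1 < 2)).1 hle
    omega
  have hZ := h.isZassenhaus
  haveI : FaithfulSMul G (Sylow 2 G) := hZ.1
  haveI : Fintype (Sylow 2 G) := Fintype.ofFinite _
  have hcardΩ : Fintype.card (Sylow 2 G) = 2 ^ b + 1 := by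
    rw [← Nat.card_eq_fintype_card, h.card_sylow_eq S, hBS, hnb]
  suffices hs : MulAction.IsMultiplyPretransitive G (Sylow 2 G) 3 from
    ⟨b, hab, psl_of_sharply (by omega) hcardΩ hs h.stabilizer_emb⟩
  have hUle : (S : Subgroup G) ≤ MulAction.stabilizer G S :=
    fun y hy => h.B_le_M (h.S_le_B S hy)
  have hUn : ((S : Subgroup G).subgroupOf (MulAction.stabilizer G S)).Normal := by
    refine ⟨fun x hx g => ?_⟩
    rw [Subgroup.mem_subgroupOf] at hx ⊢
    have h1 := conj_mem_smul_sylow S (g : G) hx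
    rwa [show (g : G) • S = S from g.2] at h1
  have hreg : ∀ y z : Sylow 2 G, y ≠ S → z ≠ S → ∃! u : (S : Subgroup G), (u : G) • y = z := by
    intro y z hy hz
    obtain ⟨c, hc, hcz⟩ := h.B_trans hy.symm hz.symm
    rw [hBS] at hc
    refine ⟨⟨c, hc⟩, hcz, ?_⟩
    rintro ⟨c', hc'⟩ hcz'
    apply Subtype.ext
    have h1 : (c⁻¹ * c') • y = y := by
      rw [mul_smul, show c' • y = z from hcz', ← hcz, inv_smul_smul]
    have h2 : c⁻¹ * c' ∈ B S := h.S_le_B S (S.mul_mem (S.inv_mem hc) hc')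
    have h3 := h.B_free hy.symm h2 h1
    have h4 : c' = c * (c⁻¹ * c') := by group
    change c' = c
    rw [h4, h3, mul_one]
  by_cases hcomm : ∀ u ∈ (S : Subgroup G), ∀ v ∈ (S : Subgroup G), Commute u v
  · haveI hFab : IsMulCommutative (S : Subgroup G) :=
      ⟨⟨fun u v => Subtype.ext (hcomm u u.2 v v.2)⟩⟩
    rcases Cfsg.Agent.S0731.result hZ S (S : Subgroup G) hUle hUn hFab hreg with
      ⟨h3, -⟩ | ⟨K, _, _, hK, ⟨e⟩⟩
    · exact h3
    · exact h.three_trans (fun S' => h.sylow_le_E_of_psl hK e S')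
  · exfalso
    have hodd : Odd (Fintype.card (Sylow 2 G)) := by
      rw [← Nat.card_eq_fintype_card]; exact h.odd_card_sylow
    haveI : IsSimpleGroup G := Cfsg.Agent.S0338.result hZ hodd
    push Not at hcomm
    obtain ⟨u, hu, v, hv, huv⟩ := hcomm
    have hUna : ∃ u v : (S : Subgroup G), u * v ≠ v * u :=
      ⟨⟨u, hu⟩, ⟨v, hv⟩, fun h0 => huv (congrArg Subtype.val h0)⟩
    obtain ⟨-, m, hm, hcard⟩ := Cfsg.Agent.S0347.result hZ S (S : Subgroup G) hUle hUn
      S.isPGroup' hUna hreg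
    have hD : Nat.card (D S P) = Nat.card (E h S) - 1 := by
      have := h.card_D_add_one hSP
      omega
    rw [h.card_G hSP, hBS, hD] at hcard
    set Q := 2 ^ (2 * m + 1) with hQ
    have hQ2 : Q ^ 2 = 2 ^ (2 * (2 * m + 1)) := by
      rw [hQ, ← pow_mul, mul_comm]
    have hQpos : 2 ≤ Q := by
      rw [hQ]
      calc 2 = 2 ^ 1 := by norm_num
        _ ≤ 2 ^ (2 * m + 1) := Nat.pow_le_pow_right (by norm_num) (by omega)
    have hQeven : 2 ∣ Q := by
      rw [hQ]
      exact dvd_pow_self 2 (by omega)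
    have hqeven : 2 ∣ Nat.card (E h S) := by
      rw [hqa]
      exact dvd_pow_self 2 (by omega)
    have hqpos : 2 ≤ Nat.card (E h S) := by
      have := h.three_le_card_E S
      omega
    have hqodd : Odd (Nat.card (E h S) - 1) := by
      obtain ⟨r, hr⟩ := hqeven
      exact ⟨r - 1, by omega⟩
    have hQodd : Odd (Q - 1) := by
      obtain ⟨r, hr⟩ := hQeven
      exact ⟨r - 1, by omega⟩
    obtain ⟨h1, h2⟩ := suz_numeric hnb hQ2 hqpos hQpos hqodd hQodd (by omega) (by omega) hcard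
    exact huv (h.comm_of_sq (by rw [h1, h2]) u hu v hv)

end Hyp

end Cfsg.Agent.Lib.TICent.Invol
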