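import Cfsg.Agent.Lib.OddLocal.CN
import Cfsg.Agent.Lib.Core.Basic
import Cfsg.Prelude.Def_OddOrderLocal
import Cfsg.Prelude.Def_LieExceptional

/-!
# Groups in which every centralizer is a TI set: first consequences

`CentTI G` says that for every `x`, the centralizer of `x` is a TI set.

* `CentTI.conj_commute`: the form in which the hypothesis is used.
* `CentTI.of_injective`: the hypothesis passes to subgroups.
* `CentTI.isNilpotent_of_center`: a nontrivial centre forces nilpotency.
* `CentTI.isCN`: `G` is a CN-group.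
* `CentTI.sylow_ti`: Sylow subgroups are TI.
-/

set_option autoImplicit false

open scoped Pointwise

namespace Cfsg.Agent.Lib.TICent.Basic

open Cfsg Cfsg.Agent.Lib.OddLocal.CN Cfsg.Agent.Lib.Coprime.Action

/-- Every centralizer is a TI set. -/
def CentTI (G : Type*) [Group G] : Prop :=
  ∀ x : G, Cfsg.IsTISubset (Subgroup.centralizer ({x} : Set G) : Set G)

section basic

variable {G : Type*} [Group G]

theorem mem_cent {x y : G} : y ∈ Subgroup.centralizer ({x} : Set G) ↔ Commute y x :=
  Subgroup.mem_centralizer_singleton_iff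

/-- The form in which the hypothesis is used. -/
theorem CentTI.conj_commute (hTI : CentTI G) {x a g y : G} (h1 : Commute a x)
    (h2 : Commute (g * a * g⁻¹) x) (ha : a ≠ 1) (hy : Commute y x) :
    Commute (g * y * g⁻¹) x := by
  have hg : g ∈ Subgroup.normalizer (Subgroup.centralizer ({x} : Set G) : Set G) := by
    by_contra h
    exact ha (hTI x g h a (mem_cent.2 h1) (mem_cent.2 h2))
  exact mem_cent.1 ((Subgroup.mem_normalizer_iff.1 hg y).1 (mem_cent.2 hy))

/-- The hypothesis passes along injective homomorphisms. -/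
theorem CentTI.of_injective {H : Type*} [Group H] (hTI : CentTI G) (f : H →* G)
    (hf : Function.Injective f) : CentTI H := by
  intro y g hg a ha hga
  by_contra ha1
  apply hg
  have hcomm : ∀ {u v : H}, Commute (f u) (f v) → Commute u v := by
    intro u v h
    apply hf
    simpa using h.eq
  have hfa : f a ≠ 1 := fun h => ha1 (hf (by simpa using h))
  have h1 : Commute (f a) (f y) := (mem_cent.1 ha).map f
  have h2 : Commute (f g * f a * (f g)⁻¹) (f y) := by
    have := (mem_cent.1 hga).map f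
    simpa using this
  rw [Subgroup.mem_normalizer_iff]
  intro c
  constructor
  · intro hc
    have h3 := hTI.conj_commute h1 h2 hfa ((mem_cent.1 hc).map f)
    apply mem_cent.2
    apply hcomm
    simpa using h3
  · intro hc
    have h4 : Commute ((f g)⁻¹ * (f g * f a * (f g)⁻¹) * ((f g)⁻¹)⁻¹) (f y) := by
      have : (f g)⁻¹ * (f g * f a * (f g)⁻¹) * ((f g)⁻¹)⁻¹ = f a := by group
      rw [this]; exact h1
    have hne : f g * f a * (f g)⁻¹ ≠ 1 := by
      intro h
      apply hfa
      have h5 : f a = (f g)⁻¹ * (f g * f a * (f g)⁻¹) * f g := by group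
      rw [h5, h]; group
    have h6 : Commute (f (g * c * g⁻¹)) (f y) := (mem_cent.1 hc).map f
    have h3 := hTI.conj_commute h2 h4 hne h6
    apply mem_cent.2
    apply hcomm
    have h7 : (f g)⁻¹ * f (g * c * g⁻¹) * ((f g)⁻¹)⁻¹ = f c := by
      simp only [map_mul, map_inv]; group
    rw [h7] at h3
    exact h3

theorem CentTI.subgroup (hTI : CentTI G) (H : Subgroup G) : CentTI H :=
  hTI.of_injective H.subtype H.subtype_injective

theorem CentTI.of_equiv {H : Type*} [Group H] (hTI : CentTI G) (e : H ≃* G) : CentTI H :=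
  hTI.of_injective e.toMonoidHom e.injective

/-- If `Z(G) ≠ 1`, then `G` is nilpotent. -/
theorem CentTI.isNilpotent_of_center [Finite G] (hTI : CentTI G) {z : G}
    (hz : z ∈ Subgroup.center G) (hz1 : z ≠ 1) : Group.IsNilpotent G := by
  rw [← Cfsg.Agent.Lib.Core.Basic.fittingSubgroup_eq_top_iff, eq_top_iff]
  intro x _
  have hzc : ∀ u : G, Commute z u := fun u => (Subgroup.mem_center_iff.1 hz u).symm
  have hN : (Subgroup.centralizer ({x} : Set G)).Normal := by
    refine ⟨fun y hy g => mem_cent.2 ?_⟩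
    have h1 : g * z * g⁻¹ = z := by
      rw [(hzc g).symm.eq]; group
    exact hTI.conj_commute (a := z) (hzc x) (by rw [h1]; exact hzc x) hz1 (mem_cent.1 hy)
  let N := Subgroup.centralizer ({x} : Set G)
  let A : Subgroup G := Subgroup.centralizer (N : Set G)
  haveI : N.Normal := hN
  have hAn : A.Normal := inferInstance
  have hxA : x ∈ A := by
    refine Subgroup.mem_centralizer_iff.2 ?_
    intro y hy
    exact ((mem_cent.1 hy).eq).symm.symm
  have hAN : A ≤ N := by
    intro a ha
    exact mem_cent.2 ((Subgroup.mem_centralizer_iff.1 ha x (mem_cent.2 (Commute.refl x))).symm)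
  haveI hcomm : IsMulCommutative A := by
    refine ⟨⟨fun a b => ?_⟩⟩
    apply Subtype.ext
    exact (Subgroup.mem_centralizer_iff.1 a.2 b.1 (hAN b.2)).symm
  have hnil : Group.IsNilpotent A := Cfsg.Agent.Lib.Core.Basic.isNilpotent_of_isMulCommutative
  exact Cfsg.Agent.Lib.Core.Basic.le_fittingSubgroup hAn hnil hxA

/-- `G` is a CN-group. -/
theorem CentTI.isCN [Finite G] (hTI : CentTI G) : IsCNGroup G := by
  intro x hx
  have h1 : CentTI (Subgroup.centralizer ({x} : Set G)) := hTI.subgroup _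
  refine h1.isNilpotent_of_center (z := ⟨x, mem_cent.2 (Commute.refl x)⟩) ?_ ?_
  · rw [Subgroup.mem_center_iff]
    intro y
    apply Subtype.ext
    exact (mem_cent.1 y.2).eq
  · intro h
    exact hx (congrArg Subtype.val h)

end basic

section sylow

variable {G : Type*} [Group G] [Finite G] {p : ℕ} [hp : Fact p.Prime]

theorem isSylowIn_of_le (S : Sylow p G) {C : Subgroup G} (h : (S : Subgroup G) ≤ C) :
    IsSylowIn p (S : Subgroup G) C := by
  refine ⟨h, S.isPGroup', fun hd => S.not_dvd_index ?_⟩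
  rw [← Subgroup.relIndex_mul_index h]
  exact hd.mul_right _

/-- Two Sylow subgroups of `G` in a nilpotent subgroup coincide. -/
theorem sylow_eq_of_nilpotent (S P : Sylow p G) {C : Subgroup G} (hC : Group.IsNilpotent C)
    (hS : (S : Subgroup G) ≤ C) (hP : (P : Subgroup G) ≤ C) : S = P := by
  have key : ∀ S P : Sylow p G, (S : Subgroup G) ≤ C → (P : Subgroup G) ≤ C →
      (P : Subgroup G) ≤ S := by
    intro S P hS hP x hx
    obtain ⟨k, hk⟩ := P.isPGroup' ⟨x, hx⟩
    have hk' : x ^ p ^ k = 1 := congrArg Subtype.val hk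
    exact mem_isSylowIn hC (isSylowIn_of_le S hS) (hP hx) hk'
  exact Sylow.ext (le_antisymm (key P S hP hS) (key S P hS hP))

theorem mem_smul_sylow (S : Sylow p G) (g x : G) : x ∈ (g • S : Sylow p G) ↔ g⁻¹ * x * g ∈ S := by
  have h1 : x ∈ ((g • S : Sylow p G) : Subgroup G) ↔ x ∈ MulAut.conj g • (S : Subgroup G) := by
    rw [Sylow.coe_subgroup_smul]
  have h2 : x ∈ MulAut.conj g • (S : Subgroup G) ↔ g⁻¹ * x * g ∈ (S : Subgroup G) := by
    rw [Subgroup.mem_pointwise_smul_iff_inv_smul_mem]
    simp [MulAut.smul_def, MulAut.conj_inv_apply]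
  exact h1.trans h2

theorem conj_mem_smul_sylow (S : Sylow p G) (g : G) {x : G} (hx : x ∈ S) :
    g * x * g⁻¹ ∈ (g • S : Sylow p G) := by
  rw [mem_smul_sylow]
  have : g⁻¹ * (g * x * g⁻¹) * g = x := by group
  rwa [this]

theorem exists_central_of_sylow (S : Sylow p G) (hS : (S : Subgroup G) ≠ ⊥) :
    ∃ z ∈ (S : Subgroup G), z ≠ 1 ∧ ∀ y ∈ (S : Subgroup G), Commute y z := by
  obtain ⟨z, hz, hz1, hzc⟩ := exists_center_of_pGroup S.isPGroup' hS
  exact ⟨z, hz, hz1, fun y hy => (Subgroup.mem_centralizer_iff.1 hzc y hy)⟩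

/-- Sylow subgroups are TI. -/
theorem CentTI.sylow_ti (hTI : CentTI G) (S P : Sylow p G) {x : G} (hxS : x ∈ S) (hxP : x ∈ P)
    (hx1 : x ≠ 1) : S = P := by
  have hS : (S : Subgroup G) ≠ ⊥ := by
    intro h
    apply hx1
    have : x ∈ (S : Subgroup G) := hxS
    rw [h] at this
    exact this
  obtain ⟨z, hz, hz1, hzc⟩ := exists_central_of_sylow S hS
  obtain ⟨g, rfl⟩ := MulAction.exists_smul_eq G S P
  have ha : g⁻¹ * x * g ∈ S := (mem_smul_sylow S g x).1 hxP
  have ha1 : g⁻¹ * x * g ≠ 1 := by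
    intro h
    apply hx1
    have h5 : x = g * (g⁻¹ * x * g) * g⁻¹ := by group
    rw [h5, h]; group
  have h2 : Commute (g * (g⁻¹ * x * g) * g⁻¹) z := by
    have : g * (g⁻¹ * x * g) * g⁻¹ = x := by group
    rw [this]
    exact hzc x hxS
  have hle : ((g • S : Sylow p G) : Subgroup G) ≤ Subgroup.centralizer ({z} : Set G) := by
    intro u hu
    have h3 : g⁻¹ * u * g ∈ S := (mem_smul_sylow S g u).1 hu
    have h4 := hTI.conj_commute (hzc _ ha) h2 ha1 (hzc _ h3)
    have h5 : g * (g⁻¹ * u * g) * g⁻¹ = u := by group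
    rw [h5] at h4
    exact mem_cent.2 h4
  exact sylow_eq_of_nilpotent S (g • S) (hTI.isCN z hz1)
    (fun y hy => mem_cent.2 (hzc y hy)) hle

/-- A `p`-element normalizing a Sylow `p`-subgroup lies in it. -/
theorem mem_of_smul_eq (S : Sylow p G) {g : G} (hg : g • S = S) {k : ℕ} (hk : g ^ p ^ k = 1) :
    g ∈ S := by
  have hgn : g ∈ Subgroup.normalizer ((S : Subgroup G) : Set G) := (Sylow.smul_eq_iff_mem_normalizer).1 hg
  have hz : IsPGroup p (Subgroup.zpowers g) := by
    rw [IsPGroup.iff_card, Nat.card_zpowers]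
    obtain ⟨j, -, hj⟩ := (Nat.dvd_prime_pow hp.out).mp (orderOf_dvd_of_pow_eq_one hk)
    exact ⟨j, hj⟩
  have hle : Subgroup.zpowers g ≤ Subgroup.normalizer ((S : Subgroup G) : Set G) := by
    rwa [Subgroup.zpowers_le]
  have hT := hz.to_sup_of_normal_right' S.isPGroup' hle
  have h1 : Subgroup.zpowers g ⊔ (S : Subgroup G) = (S : Subgroup G) :=
    S.is_maximal' hT le_sup_right
  have h2 : g ∈ Subgroup.zpowers g ⊔ (S : Subgroup G) :=
    Subgroup.mem_sup_left (Subgroup.mem_zpowers g)
  rw [h1] at h2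
  exact h2

end sylow

end Cfsg.Agent.Lib.TICent.Basic
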