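import Cfsg.Agent.Lib.TICent.Basic
import Cfsg.Agent.Lib.FPF.Complement
import Cfsg.Agent.S0039
import Cfsg.Agent.S0040

/-!
# Groups in which every centralizer is a TI set: the case `F(G) ≠ 1`

Then either `G` is nilpotent, or `F(G)` is a Hall subgroup, with a complement which is a Frobenius
complement, nilpotent, and so cyclic or `C_m × Q₈`.
-/

set_option autoImplicit false
set_option linter.unusedSectionVars false
set_option linter.style.haveILetI false

namespace Cfsg.Agent.Lib.TICent.Fit

open Cfsg Cfsg.Agent.Lib.OddLocal.CN Cfsg.Agent.Lib.Coprime.Action Cfsg.Agent.Lib.TICent.Basic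
  Cfsg.Agent.Lib.Core.Basic

section comm

variable {G : Type*} [Group G]

theorem conj_comm {a y g : G} (h : Commute a (g⁻¹ * y * g)) : Commute (g * a * g⁻¹) y := by
  have h1 := h.eq
  change g * a * g⁻¹ * y = y * (g * a * g⁻¹)
  calc g * a * g⁻¹ * y = g * (a * (g⁻¹ * y * g)) * g⁻¹ := by group
    _ = g * ((g⁻¹ * y * g) * a) * g⁻¹ := by rw [h1]
    _ = y * (g * a * g⁻¹) := by group

end comm

/-- Generalized quaternion groups of order at least `16` do not have the property. -/
theorem quat_le_one {n : ℕ} (h : CentTI (QuaternionGroup (2 ^ n))) : n ≤ 1 := by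
  by_contra hn
  push Not at hn
  have hN4 : 4 ≤ 2 ^ n := by
    calc 4 = 2 ^ 2 := by norm_num
      _ ≤ 2 ^ n := Nat.pow_le_pow_right (by norm_num) hn
  generalize 2 ^ n = N at h hN4
  have key : ((2 : ZMod (2 * N))) * (N : ZMod (2 * N)) = 0 := by
    have := ZMod.natCast_self (2 * N)
    push_cast at this
    exact this
  have hN0 : (N : ZMod (2 * N)) ≠ 0 := by
    intro h0
    rw [ZMod.natCast_eq_zero_iff] at h0
    have := Nat.le_of_dvd (by omega) h0
    omega
  have h40 : (4 : ZMod (2 * N)) ≠ 0 := by
    intro h0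
    have h1 : ((4 : ℕ) : ZMod (2 * N)) = 0 := by exact_mod_cast h0
    rw [ZMod.natCast_eq_zero_iff] at h1
    have := Nat.le_of_dvd (by omega) h1
    omega
  let z : QuaternionGroup N := QuaternionGroup.a (N : ZMod (2 * N))
  let x : QuaternionGroup N := QuaternionGroup.xa (0 : ZMod (2 * N))
  let g : QuaternionGroup N := QuaternionGroup.a (1 : ZMod (2 * N))
  have hz1 : z ≠ 1 := by
    intro h0
    apply hN0
    rw [QuaternionGroup.one_def] at h0
    exact QuaternionGroup.a.inj h0
  have h1 : Commute z x := by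
    change QuaternionGroup.a _ * QuaternionGroup.xa _ = QuaternionGroup.xa _ * QuaternionGroup.a _
    rw [QuaternionGroup.a_mul_xa, QuaternionGroup.xa_mul_a]
    congr 1
    linear_combination -key
  have inv_a : ∀ i : ZMod (2 * N), (QuaternionGroup.a i : QuaternionGroup N)⁻¹ = QuaternionGroup.a (-i) :=
    fun _ => rfl
  have hgz : g * z * g⁻¹ = z := by
    change QuaternionGroup.a _ * QuaternionGroup.a _ * (QuaternionGroup.a _)⁻¹ = QuaternionGroup.a _
    rw [inv_a, QuaternionGroup.a_mul_a, QuaternionGroup.a_mul_a]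
    congr 1
    ring
  have h3 := h.conj_commute (x := x) (a := z) (g := g) (y := x) h1 (by rw [hgz]; exact h1) hz1
    (Commute.refl x)
  have h4 : g * x * g⁻¹ = QuaternionGroup.xa (-2 : ZMod (2 * N)) := by
    change QuaternionGroup.a _ * QuaternionGroup.xa _ * (QuaternionGroup.a _)⁻¹ = _
    rw [inv_a, QuaternionGroup.a_mul_xa, QuaternionGroup.xa_mul_a]
    congr 1
    ring
  rw [h4] at h3
  have h5 : QuaternionGroup.xa (-2 : ZMod (2 * N)) * QuaternionGroup.xa (0 : ZMod (2 * N)) =
      QuaternionGroup.xa (0 : ZMod (2 * N)) * QuaternionGroup.xa (-2 : ZMod (2 * N)) := h3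
  rw [QuaternionGroup.xa_mul_xa, QuaternionGroup.xa_mul_xa] at h5
  have h6 := QuaternionGroup.a.inj h5
  apply h40
  linear_combination h6

/-- Two commuting complementary subgroups. -/
theorem prod_equiv_of_commute {X : Type*} [Group X] {A B : Subgroup X}
    (hc : Subgroup.IsComplement' A B) (hcomm : ∀ a ∈ A, ∀ b ∈ B, Commute a b) :
    Nonempty ((A × B) ≃* X) := by
  let f : A × B →* X := MonoidHom.mk' (fun x => (x.1 : X) * (x.2 : X)) (by
    rintro ⟨⟨a, ha⟩, ⟨b, hb⟩⟩ ⟨⟨c, hc⟩, ⟨d, hd⟩⟩
    have h1 : b * c = c * b := (hcomm c hc b hb).symm.eq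
    change a * c * (b * d) = a * b * (c * d)
    calc a * c * (b * d) = a * (c * b) * d := by group
      _ = a * (b * c) * d := by rw [h1]
      _ = a * b * (c * d) := by group)
  exact ⟨MulEquiv.ofBijective f hc⟩

section main

variable {G : Type*} [Group G] [Finite G]

/-- Structure of a nilpotent complement. -/
theorem complement_struct (hTI : CentTI G) {K H : Subgroup G} [K.Normal]
    (hc : Subgroup.IsComplement' K H) (hK : K ≠ ⊥) (hH : H ≠ ⊥)
    (hfpf : ∀ h ∈ H, h ≠ 1 → K ⊓ Subgroup.centralizer {h} = ⊥) :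
    IsCyclic H ∨ ∃ m : ℕ, Odd m ∧ Nonempty (H ≃* Multiplicative (ZMod m) × QuaternionGroup 2) := by
  classical
  have hTIH : CentTI H := hTI.subgroup H
  haveI hnil : Group.IsNilpotent H := by
    have hZ := Cfsg.Agent.Lib.FPF.Complement.center_ne_bot hc hK hH hfpf
    obtain ⟨w, hw⟩ := Subgroup.ne_bot_iff_exists_ne_one.1 hZ
    exact hTIH.isNilpotent_of_center w.2 (fun h => hw (Subtype.ext h))
  have hoddcyc : ∀ (B : Subgroup G), B ≤ H → ∀ (p : ℕ) [Fact p.Prime], p ≠ 2 → IsPGroup p B →
      IsCyclic B := fun B hB p _ hp2 hBp =>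
    Cfsg.Agent.Lib.FPF.Complement.isCyclic_of_isPGroup hc hK hfpf B hB hp2 hBp
  -- odd Sylow subgroups of any subgroup of `H` are cyclic
  have hoddsub : ∀ (L : Subgroup H) (p : ℕ) [Fact p.Prime], p ≠ 2 → ∀ Q : Sylow p L,
      IsCyclic (Q : Subgroup L) := by
    intro L p _ hp2 Q
    let φ : (Q : Subgroup L) →* G := H.subtype.comp (L.subtype.comp (Q : Subgroup L).subtype)
    have hφ : Function.Injective φ :=
      H.subtype_injective.comp (L.subtype_injective.comp (Q : Subgroup L).subtype_injective)
    have hB : φ.range ≤ H := by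
      rintro _ ⟨x, rfl⟩
      exact (x.1.1).2
    have hBp : IsPGroup p φ.range := by
      have : IsPGroup p (Q : Subgroup L) := Q.isPGroup'
      intro x
      obtain ⟨y, hy⟩ := x.2
      obtain ⟨k, hk⟩ := this y
      refine ⟨k, Subtype.ext ?_⟩
      have h2 := congrArg φ hk
      rw [map_pow, hy, map_one] at h2
      simpa using h2
    have h1 := hoddcyc φ.range hB p hp2 hBp
    let e : (Q : Subgroup L) ≃* φ.range := MonoidHom.ofInjective hφ
    exact isCyclic_of_surjective e.symm e.symm.surjective
  by_cases hcyc : ∀ P : Sylow 2 H, IsCyclic (P : Subgroup H)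
  · left
    haveI hZ : IsZGroup H := by
      refine ⟨fun p hp P => ?_⟩
      haveI := Fact.mk hp
      by_cases hp2 : p = 2
      · subst hp2
        exact hcyc P
      · have := hoddsub ⊤ p hp2
        -- transport along `⊤ ≃ H`
        let φ : (P : Subgroup H) →* G := H.subtype.comp (P : Subgroup H).subtype
        have hφ : Function.Injective φ := H.subtype_injective.comp (P : Subgroup H).subtype_injective
        have hB : φ.range ≤ H := by
          rintro _ ⟨x, rfl⟩
          exact (x.1).2
        have hBp : IsPGroup p φ.range := by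
          have hP : IsPGroup p (P : Subgroup H) := P.isPGroup'
          intro x
          obtain ⟨y, hy⟩ := x.2
          obtain ⟨k, hk⟩ := hP y
          refine ⟨k, Subtype.ext ?_⟩
          have h2 := congrArg φ hk
          rw [map_pow, hy, map_one] at h2
          simpa using h2
        have h1 := hoddcyc φ.range hB p hp2 hBp
        let e : (P : Subgroup H) ≃* φ.range := MonoidHom.ofInjective hφ
        exact isCyclic_of_surjective e.symm e.symm.surjective
    infer_instance
  · right
    push Not at hcyc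
    obtain ⟨T, hT⟩ := hcyc
    -- `T ≃ Q₈`
    haveI hF2 : Fact (Nat.Prime 2) := ⟨Nat.prime_two⟩
    have hQ : Nonempty ((T : Subgroup H) ≃* QuaternionGroup 2) := by
      rcases Cfsg.Agent.S0040.result K H hc hK hfpf 2 T with h | ⟨n, ⟨e⟩⟩
      · exact absurd h hT
      · have hn : n ≤ 1 := quat_le_one ((hTIH.subgroup (T : Subgroup H)).of_equiv e.symm)
        interval_cases n
        · exfalso
          apply hT
          haveI : IsCyclic (QuaternionGroup 1) := QuaternionGroup.quaternionGroup_one_isCyclic
          have e' : (T : Subgroup H) ≃* QuaternionGroup 1 := e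
          exact isCyclic_of_surjective e'.symm e'.symm.surjective
        · exact ⟨e⟩
    obtain ⟨eT⟩ := hQ
    -- a complement in `H`
    have htf : ∀ (q : ℕ) (_ : Fact q.Prime) (P : Sylow q H), (P : Subgroup H).Normal :=
      (Group.isNilpotent_of_finite_tfae (G := H)).out 0 3 |>.mp hnil
    have hTn : (T : Subgroup H).Normal := htf 2 inferInstance T
    obtain ⟨L, hL⟩ := Subgroup.exists_right_complement'_of_coprime (T.card_coprime_index)
    have hLidx : Nat.card L = (T : Subgroup H).index := hL.symm.index_eq_card.symm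
    have hLodd : Odd (Nat.card L) := by
      rw [hLidx]
      exact Nat.odd_iff.2 (by
        have := T.not_dvd_index
        omega)
    have hcop : (Nat.card L).Coprime (Nat.card (T : Subgroup H)) := by
      rw [hLidx]; exact T.card_coprime_index.symm
    have hcomm : ∀ a ∈ L, ∀ b ∈ (T : Subgroup H), Commute a b := by
      intro a ha b hb
      apply commute_of_coprime
      have h1 : orderOf a ∣ Nat.card L := by
        have := orderOf_dvd_natCard (⟨a, ha⟩ : L)
        simpa using this
      have h2 : orderOf b ∣ Nat.card (T : Subgroup H) := by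
        have := orderOf_dvd_natCard (⟨b, hb⟩ : (T : Subgroup H))
        simpa using this
      exact Nat.Coprime.coprime_dvd_left h1 (Nat.Coprime.coprime_dvd_right h2 hcop)
    obtain ⟨e⟩ := prod_equiv_of_commute hL.symm hcomm
    -- `L` is cyclic
    haveI hLnil : Group.IsNilpotent L := inferInstance
    haveI hLZ : IsZGroup L := by
      refine ⟨fun p hp Q => ?_⟩
      haveI := Fact.mk hp
      by_cases hp2 : p = 2
      · subst hp2
        have hcardQ : Nat.card (Q : Subgroup L) = 1 := by
          obtain ⟨n, hn⟩ := IsPGroup.iff_card.1 Q.isPGroup'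
          rcases Nat.eq_zero_or_pos n with rfl | hn0
          · simpa using hn
          · exfalso
            have h1 : 2 ∣ Nat.card (Q : Subgroup L) := by
              rw [hn]; exact dvd_pow_self 2 hn0.ne'
            have h2 := h1.trans (Subgroup.card_subgroup_dvd_card (Q : Subgroup L))
            have := Nat.odd_iff.1 hLodd
            omega
        haveI : Subsingleton (Q : Subgroup L) := (Nat.card_eq_one_iff_unique.1 hcardQ).1
        exact isCyclic_of_subsingleton
      · exact hoddsub L p hp2 Q
    haveI hLc : IsCyclic L := inferInstance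
    refine ⟨Nat.card L, hLodd, ⟨e.symm.trans (MulEquiv.prodCongr (zmodCyclicMulEquiv hLc).symm eT)⟩⟩

/-- The case `F(G) ≠ 1`. -/
theorem fit_case (hTI : CentTI G) (hF : fittingSubgroup G ≠ ⊥) :
    Group.IsNilpotent G ∨ ∃ H : Subgroup G, IsFrobeniusComplement H ∧
      (IsCyclic H ∨ ∃ m : ℕ, Odd m ∧ Nonempty (H ≃* Multiplicative (ZMod m) × QuaternionGroup 2)) := by
  classical
  have hCN := hTI.isCN
  set F := fittingSubgroup G with hFdef
  have hFn : F.Normal := fittingSubgroup_normal
  have hFnil : Group.IsNilpotent F := fittingSubgroup_isNilpotent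
  have hFtop : Subgroup.normalizer (F : Set G) = ⊤ := Subgroup.normalizer_eq_top_iff.2 hFn
  obtain ⟨u, huF, hu1, huc⟩ := exists_center_of_nilpotent hFnil le_rfl (by rw [hFtop]; exact le_top) hF
  have hC : ∀ y ∈ F, ∀ (g c : G), Commute c y → Commute (g * c * g⁻¹) y := by
    intro y hy g c hc
    have h1 : Commute u y := (Subgroup.mem_centralizer_iff.1 huc y hy).symm
    have h2 : Commute (g * u * g⁻¹) y := by
      apply conj_comm
      have h3 : g⁻¹ * y * g ∈ F := by
        have := hFn.conj_mem y hy g⁻¹
        simpa using this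
      exact (Subgroup.mem_centralizer_iff.1 huc _ h3).symm
    exact hTI.conj_commute h1 h2 hu1 hc
  have hCle : ∀ y ∈ F, y ≠ 1 → Subgroup.centralizer ({y} : Set G) ≤ F := by
    intro y hy hy1
    have hN : (Subgroup.centralizer ({y} : Set G)).Normal :=
      ⟨fun c hc g => mem_cent.2 (hC y hy g c (mem_cent.1 hc))⟩
    exact le_fittingSubgroup hN (hCN y hy1)
  have hmax : ∀ L : Subgroup G, Group.IsNilpotent L → F ≤ L → L = F := by
    intro L hL hFL
    apply le_antisymm _ hFL
    obtain ⟨z, hzF, hz1, hzc⟩ := exists_center_of_nilpotent hL hFL (by rw [hFtop]; exact le_top) hF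
    intro l hl
    exact hCle z hzF hz1 (mem_cent.2 (Subgroup.mem_centralizer_iff.1 hzc l hl))
  have hcop := coprime_card_index hCN hFnil hmax
  obtain ⟨H, hc⟩ := Subgroup.exists_right_complement'_of_coprime hcop
  by_cases hH : H = ⊥
  · left
    rw [← fittingSubgroup_eq_top_iff]
    apply Subgroup.eq_top_of_card_eq
    have h1 := hc.card_mul
    rw [hH] at h1
    simpa using h1
  · right
    have hfpf : ∀ h ∈ H, h ≠ 1 → F ⊓ Subgroup.centralizer {h} = ⊥ := by
      intro h hh hh1
      rw [eq_bot_iff]
      rintro y ⟨hyF, hyc⟩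
      by_contra hy1
      have hy1' : y ≠ 1 := hy1
      have h1 : h ∈ F := hCle y hyF hy1' (mem_cent.2 (mem_cent.1 hyc).symm)
      exact hh1 (Subgroup.disjoint_def.1 hc.disjoint h1 hh)
    haveI : F.Normal := hFn
    exact ⟨H, (Cfsg.Agent.S0039.result F H hc hF hH).2 hfpf, complement_struct hTI hc hF hH hfpf⟩

end main

end Cfsg.Agent.Lib.TICent.Fit
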