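import Cfsg.Agent.Lib.TICent.Fit
import Cfsg.Agent.S0034
import Cfsg.Agent.S0042

/-!
# Groups in which every centralizer is a TI set: the case `F(G) = 1`, involutions

Sylow `2`-subgroups are TI; all involutions are conjugate; an involution inverts the two-point
stabilizer in the action on the Sylow `2`-subgroups, etc.
-/

set_option autoImplicit false
set_option linter.unusedSectionVars false
set_option linter.style.haveILetI false

open scoped Pointwise

namespace Cfsg.Agent.Lib.TICent.Invol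

open Cfsg Cfsg.Agent.Lib.OddLocal.CN Cfsg.Agent.Lib.Coprime.Action Cfsg.Agent.Lib.TICent.Basic
  Cfsg.Agent.Lib.TICent.Fit Cfsg.Agent.Lib.Core.Basic

variable {G : Type*} [Group G]

/-- Involutions. -/
def IsInv (t : G) : Prop := t ≠ 1 ∧ t * t = 1

theorem inv_eq_self {t : G} (ht : t * t = 1) : t⁻¹ = t := inv_eq_of_mul_eq_one_left ht

theorem IsInv.conj {t : G} (h : IsInv t) (g : G) : IsInv (g * t * g⁻¹) := by
  refine ⟨?_, ?_⟩
  · intro h1
    apply h.1
    have h5 : t = g⁻¹ * (g * t * g⁻¹) * g := by group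
    rw [h5, h1]; group
  · calc g * t * g⁻¹ * (g * t * g⁻¹) = g * (t * t) * g⁻¹ := by group
      _ = 1 := by rw [h.2]; group

theorem conj_pow_inv {t s : G} (ht : t * t = 1) (hs : s * s = 1) (k : ℕ) :
    t * (t * s) ^ k * t = ((t * s) ^ k)⁻¹ := by
  have h1 : t * (t * s) ^ k * t⁻¹ = (t * (t * s) * t⁻¹) ^ k := (conj_pow).symm
  rw [inv_eq_self ht] at h1
  rw [h1, ← inv_pow]
  congr 1
  rw [mul_inv_rev, inv_eq_self ht, inv_eq_self hs, ← mul_assoc, ht, one_mul]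

theorem conj_pow_inv' {t s : G} (ht : t * t = 1) (hs : s * s = 1) (k : ℕ) :
    s * (t * s) ^ k * s = ((t * s) ^ k)⁻¹ := by
  have h1 : s * (t * s) ^ k * s⁻¹ = (s * (t * s) * s⁻¹) ^ k := (conj_pow).symm
  rw [inv_eq_self hs] at h1
  rw [h1, ← inv_pow]
  congr 1
  rw [mul_inv_rev, inv_eq_self ht, inv_eq_self hs, mul_assoc, mul_assoc, hs, mul_one]

/-- The involution exchanging two involutions whose product has odd order. -/
theorem exists_swap {t s : G} (ht : t * t = 1) (hs : s * s = 1) (h : Odd (orderOf (t * s))) :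
    ∃ τ : G, τ * τ = 1 ∧ τ * t * τ = s := by
  obtain ⟨k, hk⟩ := h
  set c := t * s with hc
  set e := c ^ (k + 1) with he
  have hee : e * e = c := by
    rw [he, ← pow_add]
    have : k + 1 + (k + 1) = orderOf c + 1 := by omega
    rw [this, pow_succ, pow_orderOf_eq_one, one_mul]
  have hte : t * e * t = e⁻¹ := conj_pow_inv ht hs (k + 1)
  refine ⟨t * e, ?_, ?_⟩
  · calc t * e * (t * e) = (t * e * t) * e := by group
      _ = 1 := by rw [hte]; group
  · calc t * e * t * (t * e) = t * e * (t * t) * e := by group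
      _ = t * (e * e) := by rw [ht]; group
      _ = s := by rw [hee, hc, ← mul_assoc, ht, one_mul]

theorem exists_inv_pow [Finite G] {w : G} {k : ℕ} (hw : w ^ 2 ^ k = 1) (h1 : w ≠ 1) :
    ∃ n : ℕ, IsInv (w ^ n) := by
  obtain ⟨i, -, hi⟩ := (Nat.dvd_prime_pow Nat.prime_two).1 (orderOf_dvd_of_pow_eq_one hw)
  rcases i with _ | j
  · exfalso
    apply h1
    rw [← orderOf_eq_one_iff, hi, pow_zero]
  · refine ⟨2 ^ j, ?_, ?_⟩
    · apply pow_ne_one_of_lt_orderOf (by positivity)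
      rw [hi, pow_succ]
      have : 0 < 2 ^ j := by positivity
      omega
    · rw [← pow_add, ← two_mul, ← pow_succ', ← hi, pow_orderOf_eq_one]

section main

variable [Finite G]

theorem pow_of_mem (S : Sylow 2 G) {t : G} (ht : t ∈ S) : ∃ j : ℕ, t ^ 2 ^ j = 1 := by
  obtain ⟨j, hj⟩ := S.isPGroup' ⟨t, ht⟩
  exact ⟨j, congrArg Subtype.val hj⟩

/-- A `2`-element commuting with an element of a Sylow `2`-subgroup lies in it. -/
theorem mem_of_commute (hTI : CentTI G) {S : Sylow 2 G} {t w : G} (ht : t ∈ S) (ht1 : t ≠ 1) {k : ℕ}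
    (hw : w ^ 2 ^ k = 1) (h : Commute w t) : w ∈ S := by
  let C := Subgroup.centralizer ({t} : Set G)
  have hC : Group.IsNilpotent C := hTI.isCN t ht1
  obtain ⟨Q, hQ⟩ := exists_isSylowIn 2 C
  obtain ⟨j, hj⟩ := pow_of_mem S ht
  have htQ : t ∈ Q := mem_isSylowIn hC hQ (mem_cent.2 (Commute.refl t)) hj
  have hwQ : w ∈ Q := mem_isSylowIn hC hQ (mem_cent.2 h) hw
  obtain ⟨S₁, hS₁⟩ := hQ.2.1.exists_le_sylow
  have : S = S₁ := hTI.sylow_ti S S₁ ht (hS₁ htQ) ht1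
  rw [this]
  exact hS₁ hwQ

/-- Involutions from different Sylow `2`-subgroups have a product of odd order. -/
theorem odd_orderOf_mul (hTI : CentTI G) {S P : Sylow 2 G} (hSP : S ≠ P) {t s : G} (ht : t ∈ S)
    (hs : s ∈ P) (it : IsInv t) (is : IsInv s) : Odd (orderOf (t * s)) := by
  by_contra h
  obtain ⟨k, hk⟩ := Nat.not_odd_iff_even.1 h
  have hpos : 0 < orderOf (t * s) := orderOf_pos _
  set w := (t * s) ^ k with hw
  have hw1 : w ≠ 1 := pow_ne_one_of_lt_orderOf (by omega) (by omega)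
  have hww : w * w = 1 := by
    rw [hw, ← pow_add, ← hk, pow_orderOf_eq_one]
  have hwinv : w⁻¹ = w := inv_eq_self hww
  have h1 : Commute w t := by
    have h2 : t * w * t = w⁻¹ := conj_pow_inv it.2 is.2 k
    rw [hwinv] at h2
    change w * t = t * w
    calc w * t = (t * w * t) * t := by rw [h2]
      _ = t * w * (t * t) := by group
      _ = t * w := by rw [it.2]; group
  have h3 : Commute w s := by
    have h2 : s * w * s = w⁻¹ := conj_pow_inv' it.2 is.2 k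
    rw [hwinv] at h2
    change w * s = s * w
    calc w * s = (s * w * s) * s := by rw [h2]
      _ = s * w * (s * s) := by group
      _ = s * w := by rw [is.2]; group
  have hw2 : w ^ 2 ^ 1 = 1 := by rw [pow_one, pow_two, hww]
  exact hSP (hTI.sylow_ti S P (mem_of_commute hTI ht it.1 hw2 h1)
    (mem_of_commute hTI hs is.1 hw2 h3) hw1)

/-- An involution exchanging two given involutions and their Sylow subgroups. -/
theorem exists_tau (hTI : CentTI G) {S P : Sylow 2 G} (hSP : S ≠ P) {t s : G} (ht : t ∈ S)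
    (it : IsInv t) (hs : s ∈ P) (is : IsInv s) :
    ∃ τ : G, τ * τ = 1 ∧ τ * t * τ = s ∧ τ • S = P := by
  obtain ⟨τ, h1, h2⟩ := exists_swap it.2 is.2 (odd_orderOf_mul hTI hSP ht hs it is)
  refine ⟨τ, h1, h2, ?_⟩
  apply hTI.sylow_ti (τ • S) P (x := s) _ hs is.1
  have := conj_mem_smul_sylow S τ ht
  rwa [inv_eq_self h1, h2] at this

theorem tau_swap {S P : Sylow 2 G} {τ : G} (h : τ * τ = 1) (hS : τ • S = P) : τ • P = S := by
  rw [← hS, smul_smul, h, one_smul]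

/-- The standing hypotheses for the case `F(G) = 1`. -/
structure Hyp (G : Type*) [Group G] [Finite G] : Prop where
  ti : CentTI G
  fit : fittingSubgroup G = ⊥
  even : 2 ∣ Nat.card G

namespace Hyp

variable (h : Hyp G)
include h

theorem sylow_ne_bot (S : Sylow 2 G) : (S : Subgroup G) ≠ ⊥ := by
  intro hS
  have h1 := Sylow.card_eq_multiplicity S
  rw [hS, Subgroup.card_bot] at h1
  haveI : Fact (Nat.Prime 2) := ⟨Nat.prime_two⟩
  have h2 : (Nat.card G).factorization 2 ≠ 0 := by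
    have := (Nat.Prime.dvd_iff_one_le_factorization Nat.prime_two Nat.card_pos.ne').1 h.even
    omega
  have h3 : 2 ∣ 2 ^ (Nat.card G).factorization 2 := dvd_pow_self 2 h2
  rw [← h1] at h3
  omega

theorem exists_ne (S : Sylow 2 G) : ∃ P : Sylow 2 G, P ≠ S := by
  by_contra hall
  push Not at hall
  have hn : (S : Subgroup G).Normal := by
    refine ⟨fun x hx g => ?_⟩
    have h1 : g • S = S := hall _
    have h2 := conj_mem_smul_sylow S g hx
    rwa [h1] at h2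
  have hnil : Group.IsNilpotent (S : Subgroup G) := S.isPGroup'.isNilpotent
  have h3 := le_fittingSubgroup hn hnil
  rw [h.fit] at h3
  exact h.sylow_ne_bot S (le_bot_iff.1 h3)

/-- A central involution of a Sylow `2`-subgroup. -/
theorem exists_central_inv (S : Sylow 2 G) :
    ∃ z ∈ S, IsInv z ∧ ∀ y ∈ S, Commute y z := by
  obtain ⟨z, hz, hz1, hzc⟩ := exists_central_of_sylow S (h.sylow_ne_bot S)
  obtain ⟨j, hj⟩ := pow_of_mem S hz
  obtain ⟨n, hn⟩ := exists_inv_pow hj hz1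
  exact ⟨z ^ n, S.pow_mem hz n, hn, fun y hy => (hzc y hy).pow_right n⟩

/-- Involutions in the same Sylow `2`-subgroup are conjugate in its normalizer. -/
theorem conj_of_inv {S : Sylow 2 G} {t s : G} (ht : t ∈ S) (it : IsInv t) (hs : s ∈ S) (is : IsInv s) :
    ∃ g : G, g • S = S ∧ g * t * g⁻¹ = s := by
  obtain ⟨P, hP⟩ := h.exists_ne S
  obtain ⟨r, hr, ir, -⟩ := h.exists_central_inv P
  obtain ⟨τ₁, h1, h2, -⟩ := exists_tau h.ti hP.symm ht it hr ir
  obtain ⟨τ₂, h3, h4, -⟩ := exists_tau h.ti hP.symm hs is hr ir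
  have hg : τ₂ * τ₁ * t * (τ₂ * τ₁)⁻¹ = s := by
    rw [mul_inv_rev, inv_eq_self h1, inv_eq_self h3]
    calc τ₂ * τ₁ * t * (τ₁ * τ₂) = τ₂ * (τ₁ * t * τ₁) * τ₂ := by group
      _ = τ₂ * (τ₂ * s * τ₂) * τ₂ := by rw [h2, h4]
      _ = (τ₂ * τ₂) * s * (τ₂ * τ₂) := by group
      _ = s := by rw [h3]; group
  refine ⟨τ₂ * τ₁, ?_, hg⟩
  apply h.ti.sylow_ti _ S (x := s) _ hs is.1
  have := conj_mem_smul_sylow S (τ₂ * τ₁) ht
  rwa [hg] at this

/-- Involutions are central in their Sylow `2`-subgroup. -/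
theorem central_of_inv {S : Sylow 2 G} {t : G} (ht : t ∈ S) (it : IsInv t) :
    ∀ y ∈ S, Commute y t := by
  obtain ⟨z, hz, iz, hzc⟩ := h.exists_central_inv S
  obtain ⟨g, hg, hgt⟩ := h.conj_of_inv hz iz ht it
  intro y hy
  rw [← hgt]
  have h1 : g⁻¹ * y * g ∈ S := by
    rw [← mem_smul_sylow S g y, hg]; exact hy
  have h2 : Commute (g⁻¹ * y * g) z := hzc _ h1
  -- conjugate back
  have h3 : y = g * (g⁻¹ * y * g) * g⁻¹ := by group
  rw [h3]
  exact (conj_comm (a := (g⁻¹ * y * g)) (y := g * z * g⁻¹) (g := g) (by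
    have : g⁻¹ * (g * z * g⁻¹) * g = z := by group
    rw [this]; exact h2))

end Hyp

/-- The centralizer of the involutions of `S`. -/
def B (S : Sylow 2 G) : Subgroup G := Subgroup.centralizer {t : G | t ∈ S ∧ IsInv t}

namespace Hyp

variable (h : Hyp G)
include h

theorem mem_B_iff {S : Sylow 2 G} {t : G} (ht : t ∈ S) (it : IsInv t) {y : G} :
    y ∈ B S ↔ Commute y t := by
  constructor
  · intro hy
    exact (Subgroup.mem_centralizer_iff.1 hy t ⟨ht, it⟩).symm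
  · intro hy
    refine Subgroup.mem_centralizer_iff.2 ?_
    rintro t' ⟨ht', it'⟩
    obtain ⟨g, hg, hgt⟩ := h.conj_of_inv ht it ht' it'
    rw [← hgt]
    have h1 : g⁻¹ * t * g ∈ S := by
      rw [← mem_smul_sylow S g t, hg]; exact ht
    have h2 : Commute (g⁻¹ * t * g⁻¹⁻¹) t := by
      rw [inv_inv]
      exact h.central_of_inv ht it _ h1
    have h3 := h.ti.conj_commute (a := t) (g := g⁻¹) (Commute.refl t) h2 it.1 hy
    rw [inv_inv] at h3
    exact conj_comm h3.symm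

theorem exists_inv (S : Sylow 2 G) : ∃ t : G, t ∈ S ∧ IsInv t := by
  obtain ⟨z, hz, iz, -⟩ := h.exists_central_inv S
  exact ⟨z, hz, iz⟩

theorem S_le_B (S : Sylow 2 G) : (S : Subgroup G) ≤ B S := by
  intro y hy
  obtain ⟨t, ht, it⟩ := h.exists_inv S
  exact (h.mem_B_iff ht it).2 (h.central_of_inv ht it y hy)

theorem B_eq {S : Sylow 2 G} {t : G} (ht : t ∈ S) (it : IsInv t) :
    B S = Subgroup.centralizer ({t} : Set G) := by
  ext y
  rw [h.mem_B_iff ht it, mem_cent]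

theorem B_nil (S : Sylow 2 G) : Group.IsNilpotent (B S) := by
  obtain ⟨t, ht, it⟩ := h.exists_inv S
  rw [h.B_eq ht it]
  exact h.ti.isCN t it.1

theorem B_conj {S : Sylow 2 G} {g y : G} (hg : g • S = S) (hy : y ∈ B S) : g * y * g⁻¹ ∈ B S := by
  obtain ⟨t, ht, it⟩ := h.exists_inv S
  have h1 : g * t * g⁻¹ ∈ S := by
    have := conj_mem_smul_sylow S g ht
    rwa [hg] at this
  rw [h.mem_B_iff h1 (it.conj g)]
  have h2 : Commute y t := (h.mem_B_iff ht it).1 hy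
  have h3 := h2.eq
  change g * y * g⁻¹ * (g * t * g⁻¹) = g * t * g⁻¹ * (g * y * g⁻¹)
  calc g * y * g⁻¹ * (g * t * g⁻¹) = g * (y * t) * g⁻¹ := by group
    _ = g * (t * y) * g⁻¹ := by rw [h3]
    _ = g * t * g⁻¹ * (g * y * g⁻¹) := by group

theorem B_le_M {S : Sylow 2 G} {y : G} (hy : y ∈ B S) : y • S = S := by
  refine sylow_eq_of_nilpotent (y • S) S (h.B_nil S) ?_ (h.S_le_B S)
  intro u hu
  have h1 : y⁻¹ * u * y ∈ S := (mem_smul_sylow S y u).1 hu
  have h2 := h.S_le_B S h1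
  have h3 : u = y * (y⁻¹ * u * y) * y⁻¹ := by group
  rw [h3]
  exact (B S).mul_mem ((B S).mul_mem hy h2) ((B S).inv_mem hy)

theorem two_mem_of_B {S : Sylow 2 G} {y : G} (hy : y ∈ B S) {k : ℕ} (hk : y ^ 2 ^ k = 1) : y ∈ S :=
  mem_isSylowIn (h.B_nil S) (isSylowIn_of_le S (h.S_le_B S)) hy hk

theorem coprime_of_mem_of_odd (S : Sylow 2 G) {s d : G} (hs : s ∈ S) (hd : Odd (orderOf d)) :
    (orderOf s).Coprime (orderOf d) := by
  obtain ⟨j, hj⟩ := pow_of_mem S hs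
  obtain ⟨i, -, hi⟩ := (Nat.dvd_prime_pow Nat.prime_two).1 (orderOf_dvd_of_pow_eq_one hj)
  rw [hi]
  exact Nat.Coprime.pow_left i (Nat.coprime_two_left.2 hd)

/-- The centralizer of a nontrivial odd element of `B S` lies in `B S`. -/
theorem cent_le_B {S : Sylow 2 G} {d : G} (hd : d ∈ B S) (hd1 : d ≠ 1) (hodd : Odd (orderOf d))
    {y : G} (hy : Commute y d) : y ∈ B S := by
  obtain ⟨t, ht, it⟩ := h.exists_inv S
  have hcd : Group.IsNilpotent (Subgroup.centralizer ({d} : Set G)) := h.ti.isCN d hd1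
  have hSC : (S : Subgroup G) ≤ Subgroup.centralizer ({d} : Set G) := by
    intro s hs
    exact mem_cent.2 (commute_of_coprime' (h.B_nil S) (h.S_le_B S hs) hd
      (h.coprime_of_mem_of_odd S hs hodd))
  have h1 := mem_centralizer_of_isSylowIn hcd (isSylowIn_of_le S hSC) ht
    (Subgroup.mem_centralizer_iff.2 (fun y hy => (h.central_of_inv ht it y hy)))
  exact (h.mem_B_iff ht it).2 (Subgroup.mem_centralizer_iff.1 h1 y (mem_cent.2 hy))

theorem eq_of_mem_B_B {S P : Sylow 2 G} {d : G} (hS : d ∈ B S) (hP : d ∈ B P) (hd1 : d ≠ 1)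
    (hodd : Odd (orderOf d)) : S = P := by
  have hcd : Group.IsNilpotent (Subgroup.centralizer ({d} : Set G)) := h.ti.isCN d hd1
  refine sylow_eq_of_nilpotent S P hcd ?_ ?_
  · intro s hs
    exact mem_cent.2 (commute_of_coprime' (h.B_nil S) (h.S_le_B S hs) hS
      (h.coprime_of_mem_of_odd S hs hodd))
  · intro s hs
    exact mem_cent.2 (commute_of_coprime' (h.B_nil P) (h.S_le_B P hs) hP
      (h.coprime_of_mem_of_odd P hs hodd))

theorem eq_of_commute_B {S P : Sylow 2 G} {d d' : G} (hd : d ∈ B S) (hd' : d' ∈ B P) (hd1 : d ≠ 1)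
    (hd'1 : d' ≠ 1) (hodd : Odd (orderOf d)) (hodd' : Odd (orderOf d')) (hc : Commute d' d) : S = P :=
  h.eq_of_mem_B_B (h.cent_le_B hd hd1 hodd hc) hd' hd'1 hodd'

/-- Elements fixing two distinct Sylow `2`-subgroups have odd order. -/
theorem odd_of_D {S P : Sylow 2 G} (hSP : S ≠ P) {d : G} (hS : d • S = S) (hP : d • P = P) :
    Odd (orderOf d) := by
  by_contra hnot
  obtain ⟨k, hk⟩ := Nat.not_odd_iff_even.1 hnot
  have hpos : 0 < orderOf d := orderOf_pos _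
  set w := d ^ k with hw
  have hw1 : w ≠ 1 := pow_ne_one_of_lt_orderOf (by omega) (by omega)
  have hww : w * w = 1 := by
    rw [hw, ← pow_add, ← hk, pow_orderOf_eq_one]
  have hw2 : w ^ 2 ^ 1 = 1 := by rw [pow_one, pow_two, hww]
  have hSs : d ∈ MulAction.stabilizer G S := hS
  have hPs : d ∈ MulAction.stabilizer G P := hP
  have h1 : w • S = S := (MulAction.stabilizer G S).pow_mem hSs k
  have h2 : w • P = P := (MulAction.stabilizer G P).pow_mem hPs k
  exact hSP (h.ti.sylow_ti S P (mem_of_smul_eq S h1 hw2) (mem_of_smul_eq P h2 hw2) hw1)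

/-- `D ∩ B = 1`. -/
theorem D_inf_B {S P : Sylow 2 G} (hSP : S ≠ P) {d : G} (hS : d • S = S) (hP : d • P = P)
    (hdB : d ∈ B S) : d = 1 := by
  obtain ⟨t, ht, it⟩ := h.exists_inv S
  obtain ⟨s, hs, is⟩ := h.exists_inv P
  obtain ⟨τ, hτ, hτts, hτS⟩ := exists_tau h.ti hSP ht it hs is
  have hτP : τ • P = S := tau_swap hτ hτS
  have hτi : τ⁻¹ = τ := inv_eq_self hτ
  set d' := τ * d * τ with hd'
  have hd'S : d' • S = S := by
    rw [hd', mul_smul, mul_smul, hτS, hP, hτP]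
  have hd'P : d' • P = P := by
    rw [hd', mul_smul, mul_smul, hτP, hS, hτS]
  have hdt : Commute d t := (h.mem_B_iff ht it).1 hdB
  have hd'B : d' ∈ B P := by
    rw [h.mem_B_iff hs is, ← hτts]
    have h3 := hdt.eq
    change d' * (τ * t * τ) = τ * t * τ * d'
    rw [hd']
    calc τ * d * τ * (τ * t * τ) = τ * d * (τ * τ) * t * τ := by group
      _ = τ * (d * t) * τ := by rw [hτ]; group
      _ = τ * (t * d) * τ := by rw [h3]
      _ = τ * t * (τ * τ) * d * τ := by rw [hτ]; group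
      _ = τ * t * τ * (τ * d * τ) := by group
  have hodd : Odd (orderOf d) := h.odd_of_D hSP hS hP
  have hodd' : Odd (orderOf d') := h.odd_of_D hSP hd'S hd'P
  set c := d * d' * d⁻¹ * d'⁻¹ with hc
  have hcS : c ∈ B S := by
    have h1 : c = d * (d' * d⁻¹ * d'⁻¹) := by rw [hc]; group
    rw [h1]
    exact (B S).mul_mem hdB (h.B_conj hd'S ((B S).inv_mem hdB))
  have hcP : c ∈ B P := (B P).mul_mem (h.B_conj hP hd'B) ((B P).inv_mem hd'B)
  have hcSs : c ∈ MulAction.stabilizer G S := by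
    have h1 : d ∈ MulAction.stabilizer G S := hS
    have h2 : d' ∈ MulAction.stabilizer G S := hd'S
    exact Subgroup.mul_mem _ (Subgroup.mul_mem _ (Subgroup.mul_mem _ h1 h2) (Subgroup.inv_mem _ h1))
      (Subgroup.inv_mem _ h2)
  have hcPs : c ∈ MulAction.stabilizer G P := by
    have h1 : d ∈ MulAction.stabilizer G P := hP
    have h2 : d' ∈ MulAction.stabilizer G P := hd'P
    exact Subgroup.mul_mem _ (Subgroup.mul_mem _ (Subgroup.mul_mem _ h1 h2) (Subgroup.inv_mem _ h1))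
      (Subgroup.inv_mem _ h2)
  have hc1 : c = 1 := by
    by_contra hne
    exact hSP (h.eq_of_mem_B_B hcS hcP hne (h.odd_of_D hSP hcSs hcPs))
  have hcomm : Commute d' d := by
    have h1 : d * d' = d' * d := by
      have h2 : d * d' * d⁻¹ * d'⁻¹ * (d' * d) = d * d' := by group
      rw [← h2, ← hc, hc1, one_mul]
    exact h1.symm
  by_contra hd1
  have hd'1 : d' ≠ 1 := by
    intro h0
    apply hd1
    have h1 : d = τ * (τ * d * τ) * τ := by
      calc d = (τ * τ) * d * (τ * τ) := by rw [hτ]; group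
        _ = τ * (τ * d * τ) * τ := by group
    rw [h1, ← hd', h0, mul_one, hτ]
  exact hSP (h.eq_of_commute_B hdB hd'B hd1 hd'1 hodd hodd' hcomm)

theorem exists_tau0 {S P : Sylow 2 G} (hSP : S ≠ P) : ∃ τ : G, τ * τ = 1 ∧ τ • S = P := by
  obtain ⟨t, ht, it⟩ := h.exists_inv S
  obtain ⟨s, hs, is⟩ := h.exists_inv P
  obtain ⟨τ, hτ, -, hτS⟩ := exists_tau h.ti hSP ht it hs is
  exact ⟨τ, hτ, hτS⟩

/-- Key step: transporting elements of `I(S)`. -/
theorem D_trans_aux {S P : Sylow 2 G} (hSP : S ≠ P) {τ₀ : G} (hτ₀ : τ₀ * τ₀ = 1) (hτ₀S : τ₀ • S = P)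
    {t t' : G} (ht : t ∈ S) (it : IsInv t) (ht' : t' ∈ S) (it' : IsInv t') :
    ∃ τ : G, τ * τ = 1 ∧ τ • S = P ∧ (τ₀ * τ) * t * (τ₀ * τ)⁻¹ = t' := by
  have hs : τ₀ * t' * τ₀ ∈ P := by
    have := conj_mem_smul_sylow S τ₀ ht'
    rwa [hτ₀S, inv_eq_self hτ₀] at this
  have is : IsInv (τ₀ * t' * τ₀) := by
    have := it'.conj τ₀
    rwa [inv_eq_self hτ₀] at this
  obtain ⟨τ, hτ, hτts, hτS⟩ := exists_tau h.ti hSP ht it hs is
  refine ⟨τ, hτ, hτS, ?_⟩
  rw [mul_inv_rev, inv_eq_self hτ, inv_eq_self hτ₀]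
  calc τ₀ * τ * t * (τ * τ₀) = τ₀ * (τ * t * τ) * τ₀ := by group
    _ = τ₀ * (τ₀ * t' * τ₀) * τ₀ := by rw [hτts]
    _ = (τ₀ * τ₀) * t' * (τ₀ * τ₀) := by group
    _ = t' := by rw [hτ₀]; group

/-- `D` is transitive on the involutions of `S`. -/
theorem D_trans {S P : Sylow 2 G} (hSP : S ≠ P) {t t' : G} (ht : t ∈ S) (it : IsInv t) (ht' : t' ∈ S)
    (it' : IsInv t') : ∃ d : G, d • S = S ∧ d • P = P ∧ d * t * d⁻¹ = t' := by
  obtain ⟨τ₀, hτ₀, hτ₀S⟩ := h.exists_tau0 hSP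
  obtain ⟨τ, hτ, hτS, h3⟩ := h.D_trans_aux hSP hτ₀ hτ₀S ht it ht' it'
  refine ⟨τ₀ * τ, ?_, ?_, h3⟩
  · rw [mul_smul, hτS, tau_swap hτ₀ hτ₀S]
  · rw [mul_smul, tau_swap hτ hτS, hτ₀S]

/-- For `τ₀` exchanging `S` and `P` and `d ∈ D`, the element `τ₀ d` is an involution. -/
theorem tau_mul_D {S P : Sylow 2 G} (hSP : S ≠ P) {τ₀ : G} (hτ₀ : τ₀ * τ₀ = 1) (hτ₀S : τ₀ • S = P)
    {d : G} (hS : d • S = S) (hP : d • P = P) : (τ₀ * d) * (τ₀ * d) = 1 := by
  obtain ⟨t, ht, it⟩ := h.exists_inv S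
  have ht' : d * t * d⁻¹ ∈ S := by
    have := conj_mem_smul_sylow S d ht
    rwa [hS] at this
  obtain ⟨τ, hτ, hτS, h3⟩ := h.D_trans_aux hSP hτ₀ hτ₀S ht it ht' (it.conj d)
  have hτP := tau_swap hτ hτS
  have hτ₀P := tau_swap hτ₀ hτ₀S
  -- `d⁻¹ τ₀ τ` is in `D ∩ B`
  set d₂ := d⁻¹ * (τ₀ * τ) with hd₂
  have hd₂S : d₂ • S = S := by
    rw [hd₂, mul_smul, mul_smul, hτS, hτ₀P]
    nth_rewrite 1 [← hS]
    rw [inv_smul_smul]
  have hd₂P : d₂ • P = P := by
    rw [hd₂, mul_smul, mul_smul, hτP, hτ₀S]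
    nth_rewrite 1 [← hP]
    rw [inv_smul_smul]
  have hd₂t : d₂ ∈ B S := by
    rw [h.mem_B_iff ht it]
    change d₂ * t = t * d₂
    have h4 : (τ₀ * τ) * t = d * t * d⁻¹ * (τ₀ * τ) := by
      rw [← h3]; group
    rw [hd₂]
    calc d⁻¹ * (τ₀ * τ) * t = d⁻¹ * ((τ₀ * τ) * t) := by group
      _ = d⁻¹ * (d * t * d⁻¹ * (τ₀ * τ)) := by rw [h4]
      _ = t * (d⁻¹ * (τ₀ * τ)) := by group
  have h1 : d₂ = 1 := h.D_inf_B hSP hd₂S hd₂P hd₂t
  have h2 : τ₀ * τ = d := by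
    have : τ₀ * τ = d * d₂ := by rw [hd₂]; group
    rw [this, h1, mul_one]
  have h5 : τ = τ₀ * d := by
    rw [← h2, ← mul_assoc, hτ₀, one_mul]
  rw [← h5, hτ]

theorem tau_inv {S P : Sylow 2 G} (hSP : S ≠ P) {τ₀ : G} (hτ₀ : τ₀ * τ₀ = 1) (hτ₀S : τ₀ • S = P)
    {d : G} (hS : d • S = S) (hP : d • P = P) : τ₀ * d * τ₀ = d⁻¹ := by
  have h1 := h.tau_mul_D hSP hτ₀ hτ₀S hS hP
  apply eq_inv_of_mul_eq_one_left
  rw [← h1]
  group

/-- `D` is abelian. -/
theorem D_comm {S P : Sylow 2 G} (hSP : S ≠ P) {a b : G} (haS : a • S = S) (haP : a • P = P)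
    (hbS : b • S = S) (hbP : b • P = P) : Commute a b := by
  obtain ⟨τ₀, hτ₀, hτ₀S⟩ := h.exists_tau0 hSP
  have ha := h.tau_inv hSP hτ₀ hτ₀S haS haP
  have hb := h.tau_inv hSP hτ₀ hτ₀S hbS hbP
  have hab := h.tau_inv hSP hτ₀ hτ₀S (d := a * b) (by rw [mul_smul, hbS, haS])
    (by rw [mul_smul, hbP, haP])
  have h1 : τ₀ * (a * b) * τ₀ = a⁻¹ * b⁻¹ := by
    calc τ₀ * (a * b) * τ₀ = τ₀ * a * (τ₀ * τ₀) * b * τ₀ := by rw [hτ₀]; group
      _ = (τ₀ * a * τ₀) * (τ₀ * b * τ₀) := by group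
      _ = a⁻¹ * b⁻¹ := by rw [ha, hb]
  rw [hab, mul_inv_rev] at h1
  -- `b⁻¹ a⁻¹ = a⁻¹ b⁻¹`
  change a * b = b * a
  have h2 := congrArg (fun x => x⁻¹) h1
  simp only [mul_inv_rev, inv_inv] at h2
  exact h2

/-- `M = D B`. -/
theorem M_eq_DB {S P : Sylow 2 G} (hSP : S ≠ P) {g : G} (hg : g • S = S) :
    ∃ d b : G, d • S = S ∧ d • P = P ∧ b ∈ B S ∧ g = d * b := by
  obtain ⟨t, ht, it⟩ := h.exists_inv S
  have ht' : g * t * g⁻¹ ∈ S := by
    have := conj_mem_smul_sylow S g ht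
    rwa [hg] at this
  obtain ⟨d, hdS, hdP, hd⟩ := h.D_trans hSP ht it ht' (it.conj g)
  refine ⟨d, d⁻¹ * g, hdS, hdP, ?_, by group⟩
  rw [h.mem_B_iff ht it]
  change d⁻¹ * g * t = t * (d⁻¹ * g)
  have h4 : g * t = d * t * d⁻¹ * g := by
    rw [hd]; group
  calc d⁻¹ * g * t = d⁻¹ * (g * t) := by group
    _ = d⁻¹ * (d * t * d⁻¹ * g) := by rw [h4]
    _ = t * (d⁻¹ * g) := by group

/-- A Sylow `2`-subgroup contains at least two involutions. -/
theorem exists_two_inv (S : Sylow 2 G) :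
    ∃ t t' : G, t ∈ S ∧ IsInv t ∧ t' ∈ S ∧ IsInv t' ∧ t ≠ t' := by
  by_contra hno
  push Not at hno
  obtain ⟨z, hz, iz⟩ := h.exists_inv S
  have hD : ∀ P : Sylow 2 G, S ≠ P → ∀ d : G, d • S = S → d • P = P → d = 1 := by
    intro P hSP d hdS hdP
    apply h.D_inf_B hSP hdS hdP
    rw [h.mem_B_iff hz iz]
    have h1 : d * z * d⁻¹ ∈ S := by
      have := conj_mem_smul_sylow S d hz
      rwa [hdS] at this
    have h2 : d * z * d⁻¹ = z := hno _ _ h1 (iz.conj d) hz iz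
    change d * z = z * d
    calc d * z = (d * z * d⁻¹) * d := by group
      _ = z * d := by rw [h2]
  set H : Subgroup G := MulAction.stabilizer G S with hH
  have hF : IsFrobeniusComplement H := by
    refine ⟨?_, ?_, ?_⟩
    · intro hb
      apply h.sylow_ne_bot S
      rw [eq_bot_iff, ← hb]
      intro y hy
      exact h.B_le_M (h.S_le_B S hy)
    · intro ht
      obtain ⟨P, hP⟩ := h.exists_ne S
      obtain ⟨g, rfl⟩ := MulAction.exists_smul_eq G S P
      have hg : g ∈ H := by rw [ht]; trivial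
      exact hP hg
    · intro g hg
      rw [eq_bot_iff]
      rintro x ⟨hx1, hx2⟩
      have hx3 : g⁻¹ * x * g ∈ H := by
        have := Subgroup.mem_pointwise_smul_iff_inv_smul_mem.1 hx2
        simpa [MulAut.smul_def, MulAut.conj_inv_apply] using this
      have hx4 : x • (g • S) = g • S := by
        have h5 : (g⁻¹ * x * g) • S = S := hx3
        rw [smul_smul]
        have h6 : x * g = g * (g⁻¹ * x * g) := by group
        rw [h6, mul_smul, h5]
      exact hD (g • S) (fun he => hg he.symm) x hx1 hx4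
  obtain ⟨N, hN, hNn, hNnil⟩ := Cfsg.Agent.S0042.result H hF
  have hNb : N = ⊥ := by
    have := le_fittingSubgroup hNn hNnil
    rw [h.fit] at this
    exact le_bot_iff.1 this
  have hc := (Cfsg.Agent.S0034.result H hF).1
  rw [← hN, hNb] at hc
  have hi : H.index = 1 := by
    rw [← hc]
    simp
  exact hF.2.1 (Subgroup.index_eq_one.1 hi)

/-- No nontrivial element of `B` centralizes a nontrivial element of `D`. -/
theorem B_comm_D {S P : Sylow 2 G} (hSP : S ≠ P) {d : G} (hdS : d • S = S) (hdP : d • P = P)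
    (hd1 : d ≠ 1) {b : G} (hb : b ∈ B S) (hc : Commute b d) : b = 1 := by
  by_contra hb1
  have ho : orderOf b ≠ 1 := fun h0 => hb1 (orderOf_eq_one_iff.1 h0)
  obtain ⟨r, hr, hrd⟩ := Nat.exists_prime_and_dvd ho
  set c := b ^ (orderOf b / r) with hcdef
  have hcord : orderOf c = r := orderOf_pow_orderOf_div (orderOf_pos b).ne' hrd
  have hcB : c ∈ B S := (B S).pow_mem hb _
  have hcc : Commute c d := hc.pow_left _
  have hc1 : c ≠ 1 := by
    intro h0
    rw [h0, orderOf_one] at hcord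
    exact hr.one_lt.ne hcord
  apply hd1
  apply h.D_inf_B hSP hdS hdP
  by_cases hr2 : r = 2
  · subst hr2
    have h2 : c ^ 2 = 1 := by rw [← hcord]; exact pow_orderOf_eq_one c
    have h3 : c ^ 2 ^ 1 = 1 := by rwa [pow_one]
    have hcS : c ∈ S := h.two_mem_of_B hcB h3
    have hci : IsInv c := ⟨hc1, by rw [← pow_two]; exact h2⟩
    exact (h.mem_B_iff hcS hci).2 hcc.symm
  · have hodd : Odd (orderOf c) := by
      rw [hcord]
      exact hr.odd_of_ne_two hr2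
    exact h.cent_le_B hcB hc1 hodd hcc.symm

/-- The centralizer of a nontrivial element of `D` fixes `S`. -/
theorem comm_D_fix {S P : Sylow 2 G} (hSP : S ≠ P) {d : G} (hdS : d • S = S) (hdP : d • P = P)
    (hd1 : d ≠ 1) {y : G} (hy : Commute y d) : y • S = S := by
  by_contra hne
  have hS' : S ≠ y • S := fun he => hne he.symm
  have hdS' : d • (y • S) = y • S := by
    rw [smul_smul, ← hy.eq, mul_smul, hdS]
  obtain ⟨τ, hτ, hτS⟩ := h.exists_tau0 hS'
  have hinv := h.tau_inv hS' hτ hτS hdS hdS'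
  have hg : (τ * y) • S = S := by
    rw [mul_smul, tau_swap hτ hτS]
  have hgd : (τ * y) * d * (τ * y)⁻¹ = d⁻¹ := by
    rw [mul_inv_rev, inv_eq_self hτ]
    calc τ * y * d * (y⁻¹ * τ) = τ * (y * d) * y⁻¹ * τ := by group
      _ = τ * (d * y) * y⁻¹ * τ := by rw [hy.eq]
      _ = τ * d * τ := by group
      _ = d⁻¹ := hinv
  obtain ⟨d₁, b, hd₁S, hd₁P, hb, hgeq⟩ := h.M_eq_DB hSP hg
  rw [hgeq] at hgd
  have hcomm : Commute d₁ d := h.D_comm hSP hd₁S hd₁P hdS hdP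
  have hbd : b * d * b⁻¹ = d⁻¹ := by
    have h1 : b * d * b⁻¹ = d₁⁻¹ * ((d₁ * b) * d * (d₁ * b)⁻¹) * d₁ := by group
    rw [h1, hgd]
    have h2 : d₁⁻¹ * d⁻¹ = d⁻¹ * d₁⁻¹ := by
      have := (hcomm.inv_inv).eq
      exact this
    rw [h2]; group
  have hmem : d⁻¹ * d⁻¹ ∈ B S := by
    have h1 : d⁻¹ * d⁻¹ = b * (d * b⁻¹ * d⁻¹) := by
      rw [← hbd]; group
    rw [h1]
    exact (B S).mul_mem hb (h.B_conj hdS ((B S).inv_mem hb))
  have hSs : d ∈ MulAction.stabilizer G S := hdS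
  have hPs : d ∈ MulAction.stabilizer G P := hdP
  have h3 : d⁻¹ * d⁻¹ = 1 := h.D_inf_B hSP
    (Subgroup.mul_mem _ (Subgroup.inv_mem _ hSs) (Subgroup.inv_mem _ hSs))
    (Subgroup.mul_mem _ (Subgroup.inv_mem _ hPs) (Subgroup.inv_mem _ hPs)) hmem
  have h4 : d ^ 2 = 1 := by
    have h5 : (d⁻¹) ^ 2 = 1 := by rw [pow_two]; exact h3
    rwa [inv_pow, inv_eq_one] at h5
  have hodd := h.odd_of_D hSP hdS hdP
  have h6 : orderOf d ∣ 2 := orderOf_dvd_of_pow_eq_one h4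
  have h7 : orderOf d = 1 := by
    rcases (Nat.dvd_prime Nat.prime_two).1 h6 with h8 | h8
    · exact h8
    · rw [h8] at hodd
      exact absurd hodd (by decide)
  exact hd1 (orderOf_eq_one_iff.1 h7)

/-- No nontrivial element fixes three points. -/
theorem no_three {S P R : Sylow 2 G} (hSP : S ≠ P) (hSR : S ≠ R) (hPR : P ≠ R) {x : G} (hS : x • S = S)
    (hP : x • P = P) (hR : x • R = R) : x = 1 := by
  by_contra hx1
  obtain ⟨τ₀, hτ₀, hτ₀S⟩ := h.exists_tau0 hSP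
  obtain ⟨τ₁, hτ₁, hτ₁S⟩ := h.exists_tau0 hSR
  have h0 := h.tau_inv hSP hτ₀ hτ₀S hS hP
  have h1 := h.tau_inv hSR hτ₁ hτ₁S hS hR
  have hc : Commute (τ₀ * τ₁) x := by
    change τ₀ * τ₁ * x = x * (τ₀ * τ₁)
    have h2 : τ₁ * x = x⁻¹ * τ₁ := by
      calc τ₁ * x = (τ₁ * x * τ₁) * τ₁ := by
            rw [mul_assoc (τ₁ * x), hτ₁, mul_one]
        _ = x⁻¹ * τ₁ := by rw [h1]
    have h3 : τ₀ * x⁻¹ = x * τ₀ := by
      have h4 : τ₀ * x * τ₀ = x⁻¹ := h0
      rw [← h4]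
      calc τ₀ * (τ₀ * x * τ₀) = (τ₀ * τ₀) * x * τ₀ := by group
        _ = x * τ₀ := by rw [hτ₀]; group
    calc τ₀ * τ₁ * x = τ₀ * (τ₁ * x) := by group
      _ = τ₀ * (x⁻¹ * τ₁) := by rw [h2]
      _ = (τ₀ * x⁻¹) * τ₁ := by group
      _ = x * τ₀ * τ₁ := by rw [h3]
      _ = x * (τ₀ * τ₁) := by group
  have hfix := h.comm_D_fix hSP hS hP hx1 hc
  rw [mul_smul, hτ₁S] at hfix
  apply hPR
  rw [← hτ₀S, ← hfix, smul_smul, hτ₀, one_smul]

/-- `B` is transitive on the other points. -/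
theorem B_trans {S P R : Sylow 2 G} (hSP : S ≠ P) (hSR : S ≠ R) : ∃ b ∈ B S, b • P = R := by
  obtain ⟨t, t', ht, it, ht', it', htt'⟩ := h.exists_two_inv S
  obtain ⟨d', hd'S, hd'R, hd'⟩ := h.D_trans hSR ht it ht' it'
  have hd'1 : d' ≠ 1 := by
    intro h0
    rw [h0] at hd'
    apply htt'
    rw [← hd']
    group
  obtain ⟨d₁, b₁, hd₁S, hd₁P, hb₁, heq⟩ := h.M_eq_DB hSP hd'S
  have hd₁1 : d₁ ≠ 1 := by
    intro h0
    rw [h0, one_mul] at heq
    rw [← heq] at hb₁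
    exact hd'1 (h.D_inf_B hSR hd'S hd'R hb₁)
  -- the commutator map is onto `B`
  let φ : B S → B S := fun b => ⟨b * d₁ * (b : G)⁻¹ * d₁⁻¹, by
    have h1 : (b : G) * d₁ * (b : G)⁻¹ * d₁⁻¹ = b * (d₁ * (b : G)⁻¹ * d₁⁻¹) := by group
    rw [h1]
    exact (B S).mul_mem b.2 (h.B_conj hd₁S ((B S).inv_mem b.2))⟩
  have hφ : Function.Injective φ := by
    intro a b hab
    have h1 : (a : G) * d₁ * (a : G)⁻¹ * d₁⁻¹ = b * d₁ * (b : G)⁻¹ * d₁⁻¹ := congrArg Subtype.val hab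
    have h2 : (a : G) * d₁ * (a : G)⁻¹ = b * d₁ * (b : G)⁻¹ := mul_right_cancel h1
    have h3 : Commute ((b : G)⁻¹ * a) d₁ := by
      change (b : G)⁻¹ * a * d₁ = d₁ * ((b : G)⁻¹ * a)
      calc (b : G)⁻¹ * a * d₁ = (b : G)⁻¹ * ((a : G) * d₁ * (a : G)⁻¹) * a := by group
        _ = (b : G)⁻¹ * (b * d₁ * (b : G)⁻¹) * a := by rw [h2]
        _ = d₁ * ((b : G)⁻¹ * a) := by group
    have h4 := h.B_comm_D hSP hd₁S hd₁P hd₁1 ((B S).mul_mem ((B S).inv_mem b.2) a.2) h3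
    apply Subtype.ext
    have h5 : (a : G) = b * ((b : G)⁻¹ * a) := by group
    rw [h5, h4, mul_one]
  have hφs : Function.Surjective φ := Finite.surjective_of_injective hφ
  have hk : d₁ * b₁ * d₁⁻¹ ∈ B S := h.B_conj hd₁S hb₁
  obtain ⟨b, hb⟩ := hφs ⟨_, hk⟩
  have hbeq : (b : G) * d₁ * (b : G)⁻¹ = d' := by
    have h1 : (b : G) * d₁ * (b : G)⁻¹ * d₁⁻¹ = d₁ * b₁ * d₁⁻¹ := congrArg Subtype.val hb
    have h2 : (b : G) * d₁ * (b : G)⁻¹ = d₁ * b₁ := by
      have := mul_right_cancel h1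
      exact this
    rw [h2, heq]
  refine ⟨b, b.2, ?_⟩
  by_contra hne
  -- `d'` fixes `S`, `b P`, `R`
  have hbS : (b : G) • S = S := h.B_le_M b.2
  have hS' : S ≠ (b : G) • P := by
    intro he
    apply hSP
    have h1 : (b : G) • S = (b : G) • P := by rw [hbS]; exact he
    exact smul_left_cancel _ h1
  have hd'P' : d' • ((b : G) • P) = (b : G) • P := by
    rw [← hbeq, smul_smul]
    have h1 : (b : G) * d₁ * (b : G)⁻¹ * (b : G) = (b : G) * d₁ := by group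
    rw [h1, mul_smul, hd₁P]
  exact hd'1 (h.no_three hS' hSR hne hd'S hd'P' hd'R)

/-- `B` acts freely on the other points. -/
theorem B_free {S P : Sylow 2 G} (hSP : S ≠ P) {b : G} (hb : b ∈ B S) (hbP : b • P = P) : b = 1 :=
  h.D_inf_B hSP (h.B_le_M hb) hbP hb

end Hyp

end main

end Cfsg.Agent.Lib.TICent.Invol
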