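import Cfsg.Agent.Lib.TICent.Invol
import Cfsg.Agent.Lib.Solvable.Fitting
import Cfsg.Agent.S0183
import Cfsg.Agent.S0338
import Cfsg.Agent.S0346

/-!
# Groups in which every centralizer is a TI set: the Zassenhaus action on Sylow `2`-subgroups
-/

set_option autoImplicit false
set_option linter.unusedSectionVars false
set_option linter.style.haveILetI false

open scoped Pointwise

namespace Cfsg.Agent.Lib.TICent.Invol

open Cfsg Cfsg.Agent.Lib.OddLocal.CN Cfsg.Agent.Lib.Coprime.Action Cfsg.Agent.Lib.TICent.Basic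
  Cfsg.Agent.Lib.TICent.Fit Cfsg.Agent.Lib.Core.Basic

theorem fit_ne_bot_of_solvable {X : Type*} [Group X] [Finite X] [Nontrivial X]
    [Group.IsSolvable X] : fittingSubgroup X ≠ ⊥ := by
  intro h0
  have h1 := Cfsg.Agent.Lib.Solvable.Fitting.centralizer_fittingSubgroup_le (G := X)
  rw [h0] at h1
  obtain ⟨x, hx⟩ := exists_ne (1 : X)
  have h2 : x ∈ Subgroup.centralizer (((⊥ : Subgroup X) : Subgroup X) : Set X) := by
    refine Subgroup.mem_centralizer_iff.2 ?_
    intro y hy
    have hy1 : y = 1 := hy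
    rw [hy1]; group
  exact hx (h1 h2)

variable {G : Type*} [Group G] [Finite G]

theorem Hyp.of (hTI : CentTI G) (hF : fittingSubgroup G = ⊥) [Nontrivial G] : Hyp G := by
  refine ⟨hTI, hF, ?_⟩
  by_contra hodd
  have h1 : Odd (Nat.card G) := Nat.odd_iff.2 (by omega)
  haveI : Group.IsSolvable G := Cfsg.Agent.S0183.result h1 hTI.isCN
  exact fit_ne_bot_of_solvable hF

namespace Hyp

variable (h : Hyp G)
include h

theorem odd_card_sylow : Odd (Nat.card (Sylow 2 G)) := by
  haveI : Fact (Nat.Prime 2) := ⟨Nat.prime_two⟩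
  have h1 := card_sylow_modEq_one 2 G
  exact Nat.odd_iff.2 h1

theorem isZassenhaus : IsZassenhausGroup G (Sylow 2 G) := by
  refine ⟨?_, ?_, ?_, ?_, ?_⟩
  · refine ⟨fun {x y} hxy => ?_⟩
    have hfix : ∀ Q : Sylow 2 G, (x⁻¹ * y) • Q = Q := by
      intro Q
      rw [mul_smul, ← hxy Q, inv_smul_smul]
    obtain ⟨S⟩ : Nonempty (Sylow 2 G) := inferInstance
    obtain ⟨P, hP⟩ := h.exists_ne S
    have hSP : S ≠ P := hP.symm
    obtain ⟨b, hb⟩ := Subgroup.ne_bot_iff_exists_ne_one.1 (h.sylow_ne_bot S)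
    have hbB : (b : G) ∈ B S := h.S_le_B S b.2
    have hb1 : (b : G) ≠ 1 := fun h0 => hb (Subtype.ext h0)
    have hbS : (b : G) • S = S := h.B_le_M hbB
    have hR1 : S ≠ (b : G) • P := by
      intro he
      apply hSP
      have h1 : (b : G) • S = (b : G) • P := by rw [hbS]; exact he
      exact smul_left_cancel _ h1
    have hR2 : P ≠ (b : G) • P := by
      intro he
      exact hb1 (h.B_free hSP hbB he.symm)
    have h1 := h.no_three hSP hR1 hR2 (hfix _) (hfix _) (hfix _)
    have h2 : y = x * (x⁻¹ * y) := by group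
    rw [h2, h1, mul_one]
  · refine MulAction.is_two_pretransitive_iff.2 (fun {a b c d} hab hcd => ?_)
    obtain ⟨g₁, hg₁⟩ := MulAction.exists_smul_eq G a c
    have hne : c ≠ g₁ • b := by
      intro he
      apply hab
      rw [← hg₁] at he
      exact smul_left_cancel _ he
    obtain ⟨b', hb', hb'd⟩ := h.B_trans hne hcd
    refine ⟨b' * g₁, ?_, ?_⟩
    · rw [mul_smul, hg₁]
      exact h.B_le_M hb'
    · rw [mul_smul, hb'd]
  · intro g a b c hab hbc hac ha hb hc
    exact h.no_three hab hac hbc ha hb hc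
  · obtain ⟨S⟩ : Nonempty (Sylow 2 G) := inferInstance
    obtain ⟨P, hP⟩ := h.exists_ne S
    obtain ⟨t, t', ht, it, ht', it', htt'⟩ := h.exists_two_inv S
    obtain ⟨d, hdS, hdP, hd⟩ := h.D_trans hP.symm ht it ht' it'
    refine ⟨d, ?_, S, P, hP.symm, hdS, hdP⟩
    intro h0
    rw [h0] at hd
    apply htt'
    rw [← hd]
    group
  · intro N hN hpre
    by_contra hno
    push Not at hno
    obtain ⟨S⟩ : Nonempty (Sylow 2 G) := inferInstance
    have h1 := MulAction.index_stabilizer_of_transitive N S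
    rw [hno S, Subgroup.index_bot] at h1
    have hodd : Odd (Nat.card N) := by
      rw [h1]
      exact h.odd_card_sylow
    haveI : Group.IsSolvable N := Cfsg.Agent.S0183.result hodd (h.ti.subgroup N).isCN
    haveI : Nontrivial N := by
      obtain ⟨P, hP⟩ := h.exists_ne S
      have h2 : 1 < Nat.card (Sylow 2 G) := Finite.one_lt_card_iff_nontrivial.2 ⟨⟨P, S, hP⟩⟩
      rw [← h1] at h2
      exact Finite.one_lt_card_iff_nontrivial.1 h2
    have h3 := map_fittingSubgroup_of_isSubnormal hN.isSubnormal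
    rw [h.fit, bot_inf_eq] at h3
    have h4 : fittingSubgroup N = ⊥ :=
      (Subgroup.map_eq_bot_iff_of_injective _ N.subtype_injective).1 h3
    exact fit_ne_bot_of_solvable h4

/-- The points other than `S` are a regular orbit of `B S`. -/
theorem card_sylow_eq (S : Sylow 2 G) : Nat.card (Sylow 2 G) = Nat.card (B S) + 1 := by
  obtain ⟨P, hP⟩ := h.exists_ne S
  have hSP : S ≠ P := hP.symm
  let f : Option (B S) → Sylow 2 G := fun o => match o with
    | none => S
    | some b => (b : G) • P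
  have hne : ∀ b : B S, S ≠ (b : G) • P := by
    intro b he
    apply hSP
    have h1 : (b : G) • S = (b : G) • P := by rw [h.B_le_M b.2]; exact he
    exact smul_left_cancel _ h1
  have hf : Function.Bijective f := by
    constructor
    · rintro (_ | a) (_ | b) hab
      · rfl
      · exact absurd hab (hne b)
      · exact absurd hab.symm (hne a)
      · have h1 : (a : G) • P = (b : G) • P := hab
        have h2 : ((b : G)⁻¹ * a) • P = P := by
          rw [mul_smul, h1, inv_smul_smul]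
        have h3 := h.B_free hSP ((B S).mul_mem ((B S).inv_mem b.2) a.2) h2
        have h4 : (a : G) = b := by
          have h5 : (a : G) = b * ((b : G)⁻¹ * a) := by group
          rw [h5, h3, mul_one]
        rw [Subtype.ext h4]
    · intro R
      by_cases hR : R = S
      · exact ⟨none, hR.symm⟩
      · obtain ⟨b, hb, hbR⟩ := h.B_trans hSP (fun he => hR he.symm)
        exact ⟨some ⟨b, hb⟩, hbR⟩
  rw [← Nat.card_eq_of_bijective f hf, Finite.card_option]

theorem two_dvd_card_B (S : Sylow 2 G) : 2 ∣ Nat.card (B S) := by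
  obtain ⟨t, ht, it⟩ := h.exists_inv S
  have h1 : orderOf (⟨t, h.S_le_B S ht⟩ : B S) = 2 := by
    rw [Subgroup.orderOf_mk]
    exact orderOf_eq_prime (by rw [pow_two]; exact it.2) it.1
  rw [← h1]
  exact orderOf_dvd_natCard _

/-- `B S = S`: the centralizer of an involution is a `2`-group. -/
theorem B_eq_S (S : Sylow 2 G) : B S = (S : Subgroup G) := by
  classical
  haveI : Fintype (Sylow 2 G) := Fintype.ofFinite _
  have hZ := h.isZassenhaus
  have hodd : Odd (Fintype.card (Sylow 2 G)) := by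
    rw [← Nat.card_eq_fintype_card]; exact h.odd_card_sylow
  haveI : IsSimpleGroup G := Cfsg.Agent.S0338.result hZ hodd
  have hpp := Cfsg.Agent.S0346.result hZ
  rw [← Nat.card_eq_fintype_card, h.card_sylow_eq S, Nat.add_sub_cancel] at hpp
  obtain ⟨p, k, hp, hk, hpk⟩ := hpp
  have hp' : p.Prime := hp.nat_prime
  have h2 : 2 ∣ p ^ k := by rw [hpk]; exact h.two_dvd_card_B S
  have hp2 : p = 2 := ((Nat.prime_dvd_prime_iff_eq Nat.prime_two hp').1
    (Nat.prime_two.dvd_of_dvd_pow h2)).symm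
  subst hp2
  apply le_antisymm _ (h.S_le_B S)
  intro y hy
  have h3 : (⟨y, hy⟩ : B S) ^ 2 ^ k = 1 := by
    rw [hpk]; exact pow_card_eq_one'
  exact h.two_mem_of_B hy (congrArg Subtype.val h3)

end Hyp

/-- The involutions of `S` with the identity. -/
def E (h : Hyp G) (S : Sylow 2 G) : Subgroup G where
  carrier := {x | x ∈ S ∧ x * x = 1}
  mul_mem' := by
    rintro x y ⟨hx, hx2⟩ ⟨hy, hy2⟩
    refine ⟨S.mul_mem hx hy, ?_⟩
    by_cases hy1 : y = 1
    · rw [hy1, mul_one]; exact hx2
    · have hc : Commute x y := h.central_of_inv hy ⟨hy1, hy2⟩ x hx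
      calc x * y * (x * y) = x * (y * x) * y := by group
        _ = x * (x * y) * y := by rw [hc.eq]
        _ = (x * x) * (y * y) := by group
        _ = 1 := by rw [hx2, hy2, one_mul]
  one_mem' := ⟨S.one_mem, one_mul 1⟩
  inv_mem' := by
    rintro x ⟨hx, hx2⟩
    refine ⟨S.inv_mem hx, ?_⟩
    rw [inv_eq_self hx2]; exact hx2

/-- The two-point stabilizer. -/
def D (S P : Sylow 2 G) : Subgroup G := MulAction.stabilizer G S ⊓ MulAction.stabilizer G P

theorem mem_D {S P : Sylow 2 G} {d : G} : d ∈ D S P ↔ d • S = S ∧ d • P = P := Iff.rfl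

theorem mem_E {h : Hyp G} {S : Sylow 2 G} {x : G} : x ∈ E h S ↔ x ∈ S ∧ x * x = 1 := Iff.rfl

namespace Hyp

variable (h : Hyp G)
include h

theorem E_le_S (S : Sylow 2 G) : E h S ≤ (S : Subgroup G) := fun _ hx => hx.1

theorem central_of_E {S : Sylow 2 G} {e : G} (he : e ∈ E h S) : ∀ y ∈ S, Commute y e := by
  by_cases he1 : e = 1
  · intro y _
    rw [he1]
    exact Commute.one_right y
  · exact h.central_of_inv he.1 ⟨he1, he.2⟩

/-- `|D| + 1 = |E|`. -/
theorem card_D_add_one {S P : Sylow 2 G} (hSP : S ≠ P) : Nat.card (D S P) + 1 = Nat.card (E h S) := by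
  obtain ⟨t, ht, it⟩ := h.exists_inv S
  have hconj : ∀ d : D S P, (d : G) * t * (d : G)⁻¹ ∈ E h S := by
    intro d
    have h1 := conj_mem_smul_sylow S (d : G) ht
    rw [(mem_D.1 d.2).1] at h1
    exact ⟨h1, (it.conj _).2⟩
  let f : Option (D S P) → E h S := fun o => match o with
    | none => 1
    | some d => ⟨(d : G) * t * (d : G)⁻¹, hconj d⟩
  have hf : Function.Bijective f := by
    constructor
    · rintro (_ | a) (_ | b) hab
      · rfl
      · exfalso
        have h1 : (1 : G) = (b : G) * t * (b : G)⁻¹ := congrArg Subtype.val hab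
        exact (it.conj (b : G)).1 h1.symm
      · exfalso
        have h1 : (a : G) * t * (a : G)⁻¹ = 1 := congrArg Subtype.val hab
        exact (it.conj (a : G)).1 h1
      · have h1 : (a : G) * t * (a : G)⁻¹ = (b : G) * t * (b : G)⁻¹ := congrArg Subtype.val hab
        have h2 : (b : G)⁻¹ * a ∈ D S P := (D S P).mul_mem ((D S P).inv_mem b.2) a.2
        have h3 : (b : G)⁻¹ * a ∈ B S := by
          rw [h.mem_B_iff ht it]
          change (b : G)⁻¹ * a * t = t * ((b : G)⁻¹ * a)
          have h4 : (a : G) * t = (a : G) * t * (a : G)⁻¹ * a := by group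
          calc (b : G)⁻¹ * a * t = (b : G)⁻¹ * ((a : G) * t * (a : G)⁻¹) * a := by group
            _ = (b : G)⁻¹ * ((b : G) * t * (b : G)⁻¹) * a := by rw [h1]
            _ = t * ((b : G)⁻¹ * a) := by group
        have h5 := h.D_inf_B hSP (mem_D.1 h2).1 (mem_D.1 h2).2 h3
        have h6 : (a : G) = b := by
          have h7 : (a : G) = b * ((b : G)⁻¹ * a) := by group
          rw [h7, h5, mul_one]
        rw [Subtype.ext h6]
    · rintro ⟨e, he⟩
      by_cases he1 : e = 1
      · exact ⟨none, Subtype.ext he1.symm⟩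
      · obtain ⟨d, hdS, hdP, hd⟩ := h.D_trans hSP ht it he.1 ⟨he1, he.2⟩
        exact ⟨some ⟨d, hdS, hdP⟩, Subtype.ext hd⟩
  rw [← Nat.card_eq_of_bijective f hf, Finite.card_option]

/-- `|M| = |D| |B|`. -/
theorem card_M {S P : Sylow 2 G} (hSP : S ≠ P) :
    Nat.card (MulAction.stabilizer G S) = Nat.card (D S P) * Nat.card (B S) := by
  let f : D S P × B S → MulAction.stabilizer G S := fun x =>
    ⟨(x.1 : G) * x.2, by
      have h1 : (x.1 : G) ∈ MulAction.stabilizer G S := (mem_D.1 x.1.2).1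
      have h2 : (x.2 : G) ∈ MulAction.stabilizer G S := h.B_le_M x.2.2
      exact Subgroup.mul_mem _ h1 h2⟩
  have hf : Function.Bijective f := by
    constructor
    · rintro ⟨a, b⟩ ⟨c, e⟩ hab
      have h1 : (a : G) * b = c * e := congrArg Subtype.val hab
      have h2 : (c : G)⁻¹ * a = e * (b : G)⁻¹ := by
        calc (c : G)⁻¹ * a = (c : G)⁻¹ * ((a : G) * b) * (b : G)⁻¹ := by group
          _ = (c : G)⁻¹ * ((c : G) * e) * (b : G)⁻¹ := by rw [h1]
          _ = e * (b : G)⁻¹ := by group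
      have h3 : (c : G)⁻¹ * a ∈ D S P := (D S P).mul_mem ((D S P).inv_mem c.2) a.2
      have h4 : (c : G)⁻¹ * a ∈ B S := by
        rw [h2]
        exact (B S).mul_mem e.2 ((B S).inv_mem b.2)
      have h5 := h.D_inf_B hSP (mem_D.1 h3).1 (mem_D.1 h3).2 h4
      have h6 : (a : G) = c := by
        have h7 : (a : G) = c * ((c : G)⁻¹ * a) := by group
        rw [h7, h5, mul_one]
      have h8 : (b : G) = e := by
        rw [h6] at h1
        exact mul_left_cancel h1
      rw [Subtype.ext h6, Subtype.ext h8]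
    · rintro ⟨g, hg⟩
      obtain ⟨d, b, hdS, hdP, hb, hgeq⟩ := h.M_eq_DB hSP hg
      exact ⟨⟨⟨d, hdS, hdP⟩, ⟨b, hb⟩⟩, Subtype.ext hgeq.symm⟩
  rw [← Nat.card_eq_of_bijective f hf, Nat.card_prod]

/-- `|G| = (|B| + 1) |D| |B|`. -/
theorem card_G {S P : Sylow 2 G} (hSP : S ≠ P) :
    Nat.card G = (Nat.card (B S) + 1) * (Nat.card (D S P) * Nat.card (B S)) := by
  rw [← h.card_M hSP, ← h.card_sylow_eq S, ← MulAction.index_stabilizer_of_transitive G S, mul_comm]
  exact (Subgroup.card_mul_index _).symm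

/-- `|E| ≥ 3` -/
theorem three_le_card_E (S : Sylow 2 G) : 3 ≤ Nat.card (E h S) := by
  obtain ⟨t, t', ht, it, ht', it', htt'⟩ := h.exists_two_inv S
  classical
  haveI : Fintype (E h S) := Fintype.ofFinite _
  have hs : ({1, ⟨t, ht, it.2⟩, ⟨t', ht', it'.2⟩} : Finset (E h S)).card = 3 := by
    refine Finset.card_eq_three.2 ⟨_, _, _, ?_, ?_, ?_, rfl⟩
    · intro h0
      exact it.1 (congrArg Subtype.val h0).symm
    · intro h0
      exact it'.1 (congrArg Subtype.val h0).symm
    · intro h0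
      exact htt' (congrArg Subtype.val h0)
  rw [Nat.card_eq_fintype_card, ← hs]
  exact Finset.card_le_univ _

theorem isPGroup_E (S : Sylow 2 G) : IsPGroup 2 (E h S) := by
  intro x
  obtain ⟨j, hj⟩ := pow_of_mem S x.2.1
  exact ⟨j, Subtype.ext (by simpa using hj)⟩

/-- A numerical form of `|E|`. -/
theorem exists_card_E (S : Sylow 2 G) : ∃ a : ℕ, 2 ≤ a ∧ Nat.card (E h S) = 2 ^ a := by
  haveI : Fact (Nat.Prime 2) := ⟨Nat.prime_two⟩
  obtain ⟨a, ha⟩ := IsPGroup.iff_card.1 (h.isPGroup_E S)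
  refine ⟨a, ?_, ha⟩
  by_contra hlt
  have h3 := h.three_le_card_E S
  rw [ha] at h3
  have : a = 0 ∨ a = 1 := by omega
  rcases this with rfl | rfl <;> omega

theorem exists_card_S (S : Sylow 2 G) : ∃ b : ℕ, Nat.card (S : Subgroup G) = 2 ^ b := by
  haveI : Fact (Nat.Prime 2) := ⟨Nat.prime_two⟩
  exact IsPGroup.iff_card.1 S.isPGroup'

theorem card_E_le (S : Sylow 2 G) : Nat.card (E h S) ≤ Nat.card (S : Subgroup G) :=
  Subgroup.card_le_of_le (h.E_le_S S)

end Hyp

end Cfsg.Agent.Lib.TICent.Invol
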